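import Cfsg.Agent.U62Three.K.Z.Block

/-!
# The centralisers at the point `z`
-/

set_option autoImplicit false
set_option linter.unusedSectionVars false

open Subgroup Pointwise
open scoped commutatorElement

namespace Cfsg.Agent.U62Three.K

universe u

variable {G : Type u} [Group G] [Finite G] {z : G} {Q : Subgroup G} (D : Facts z Q)

theorem card_zz (H : Hyp z Q) : Nat.card ↥(zpowers z) = 3 := by rw [Nat.card_zpowers, H.oz]

/-- The quaternion group moves any element of its block outside the centre onto any other. -/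
theorem block_trans (H : Hyp z Q) {i : Fin 2} {x y : G} (hx : x ∈ D.Qi i) (hxz : x ∉ zpowers z)
    (hy : y ∈ D.Qi i) (hyz : y ∉ zpowers z) : ∃ r ∈ D.R i, y⁻¹ * (r * x * r⁻¹) ∈ zpowers z := by
  classical
  set Z := (zpowers z).subgroupOf (D.Qi i)
  have hcard : Nat.card (↥(D.Qi i) ⧸ Z) = 9 := by
    have h := Z.card_eq_card_quotient_mul_card_subgroup
    rw [D.cardQ, Nat.card_congr (subgroupOfEquivOfLe (zpowers_le.2 (D.z_mem i))).toEquiv, card_zz H] at h
    omega
  have hmem : ∀ r : ↥(D.R i), r.1 * x * r.1⁻¹ ∈ D.Qi i := fun r =>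
    (mem_normalizer_iff.1 (D.R_norm i i r.2) x).1 hx
  have hout : ∀ r : ↥(D.R i), r.1 * x * r.1⁻¹ ∉ zpowers z := fun r h => hxz (by
    have hc : Commute r.1⁻¹ (r.1 * x * r.1⁻¹) := by
      obtain ⟨s, hs⟩ := mem_zpowers_iff.1 h
      rw [← hs]
      exact (show Commute r.1 z from mem_centralizer_singleton_iff.1 (D.R_le i r.2)).inv_left.zpow_right s
    have e : x = r.1⁻¹ * (r.1 * x * r.1⁻¹) * r.1 := by group
    rwa [e, hc.eq, inv_mul_cancel_right])
  let f : ↥(D.R i) → {c : ↥(D.Qi i) ⧸ Z // c ≠ QuotientGroup.mk 1} := fun r =>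
    ⟨QuotientGroup.mk ⟨_, hmem r⟩, fun e => hout r (by
      have := (QuotientGroup.eq.1 e.symm)
      rw [inv_one, one_mul] at this
      exact this)⟩
  have hf : Function.Injective f := fun r s e => by
    have h := QuotientGroup.eq.1 (congrArg Subtype.val e)
    have h' : (r.1 * x * r.1⁻¹)⁻¹ * (s.1 * x * s.1⁻¹) ∈ zpowers z := h
    set c := (r.1 * x * r.1⁻¹)⁻¹ * (s.1 * x * s.1⁻¹) with hc
    have hcc : Commute (r.1⁻¹) c := by
      obtain ⟨n, hn⟩ := mem_zpowers_iff.1 h'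
      rw [← hn]
      exact (show Commute r.1 z from mem_centralizer_singleton_iff.1 (D.R_le i r.2)).inv_left.zpow_right n
    have hcx : Commute x c := by
      obtain ⟨n, hn⟩ := mem_zpowers_iff.1 h'
      rw [← hn]
      exact ((z_comm_Q (Q := Q) H (D.le i hx)).symm).zpow_right n
    refine Subtype.ext (inv_mul_eq_one.1 (D.faith i _ (mul_mem (inv_mem r.2) s.2) x hx hxz ?_))
    have e1 : r.1⁻¹ * s.1 * x * (r.1⁻¹ * s.1)⁻¹ * x⁻¹ = x * c * x⁻¹ := by
      calc r.1⁻¹ * s.1 * x * (r.1⁻¹ * s.1)⁻¹ * x⁻¹ = x * (r.1⁻¹ * c * r.1) * x⁻¹ := by rw [hc]; group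
        _ = x * c * x⁻¹ := by rw [hcc.eq, inv_mul_cancel_right]
    rw [e1, hcx.eq, mul_inv_cancel_right]
    exact h'
  have : Fintype (↥(D.Qi i) ⧸ Z) := Fintype.ofFinite _
  have hbij : Function.Bijective f := (Nat.bijective_iff_injective_and_card f).2 ⟨hf, by
    rw [(cover_R D i).2.1, Nat.card_eq_fintype_card, Fintype.card_subtype_compl, Fintype.card_subtype_eq,
      ← Nat.card_eq_fintype_card, hcard]⟩
  obtain ⟨r, hr⟩ := hbij.2 ⟨QuotientGroup.mk ⟨y, hy⟩, fun e => hyz (by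
    have := QuotientGroup.eq.1 e.symm
    rw [inv_one, one_mul] at this
    exact this)⟩
  have e : (QuotientGroup.mk ⟨y, hy⟩ : ↥(D.Qi i) ⧸ Z) = QuotientGroup.mk ⟨_, hmem r⟩ :=
    (congrArg Subtype.val hr).symm
  have h := QuotientGroup.eq.1 e
  exact ⟨r.1, r.2, h⟩

/-- The centraliser in a block of an element outside the centre. -/
theorem cent_in_block (H : Hyp z Q) {i : Fin 2} {x y : G} (hx : x ∈ D.Qi i) (hxz : x ∉ zpowers z)
    (hy : y ∈ D.Qi i) (h : Commute x y) : y ∈ zpowers z ⊔ zpowers x := by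
  set C := D.Qi i ⊓ centralizer ({x} : Set G)
  set E := zpowers z ⊔ zpowers x
  have hEC : E ≤ C := sup_le (zpowers_le.2 ⟨D.z_mem i,
      mem_centralizer_singleton_iff.2 (z_comm_Q H (D.le i hx)).eq⟩)
    (zpowers_le.2 ⟨hx, mem_centralizer_singleton_iff.2 rfl⟩)
  have hp : IsPGroup 3 ↥(D.Qi i) := IsPGroup.of_card (n := 3) (by rw [D.cardQ]; rfl)
  haveI : Fact (Nat.Prime 3) := ⟨Nat.prime_three⟩
  obtain ⟨a, ha⟩ := IsPGroup.iff_card.1 (hp.to_le (hEC.trans inf_le_left))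
  obtain ⟨b, hb⟩ := IsPGroup.iff_card.1 (hp.to_le (inf_le_left : C ≤ D.Qi i))
  have h1 : 2 ≤ a := by
    by_contra hlt
    have h3 : Nat.card ↥E ≤ 3 := by
      rw [ha]; exact (Nat.pow_le_pow_right (by norm_num) (show a ≤ 1 by omega)).trans (le_of_eq (pow_one 3))
    have he := eq_of_le_of_card_ge (le_sup_left : zpowers z ≤ E) (by rw [card_zz H]; exact h3)
    exact hxz (he.ge (mem_sup_right (mem_zpowers x)))
  have h2 : b ≤ 2 := by
    by_contra hlt
    have he : C = D.Qi i := eq_of_le_of_card_ge inf_le_left (by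
      rw [D.cardQ, hb]
      exact (show (27 : ℕ) = 3 ^ 3 from rfl) ▸ Nat.pow_le_pow_right (by norm_num) (show 3 ≤ b by omega))
    exact hxz (D.centre i x hx fun w hw => (mem_centralizer_singleton_iff.1 (he.ge hw).2).symm)
  have he := eq_of_le_of_card_ge hEC (by
    rw [ha, hb]; exact Nat.pow_le_pow_right (by norm_num) (h2.trans h1))
  exact he.ge ⟨hy, mem_centralizer_singleton_iff.2 h.symm.eq⟩

theorem zpow_z_J : zpowers z ≤ D.F.J :=
  by
  refine zpowers_le.2 ?_
  exact (congrArg (· ∈ D.F.J) D.F.hz).mpr (mul_mem (j_mem D.F _ _) (j_mem D.F _ _))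

theorem QJ_of_comm (H : Hyp z Q) {i : Fin 2} {a b : Fin 6} (hab : a ≠ b) (hj : D.F.j a b ∈ D.Qi i) {y : G}
    (hy : y ∈ D.Qi i) (h : Commute (D.F.j a b) y) : y ∈ D.F.J :=
  sup_le (zpow_z_J D) (zpowers_le.2 (j_mem D.F a b)) (cent_in_block D H hj (j_not_z D H a b hab) hy h)

/-- The frame is self-centralising in the blocks. -/
theorem Q_cent_JQ (H : Hyp z Q) {x : G} (hx : x ∈ Q) (h0 : Commute (D.F.j 0 1) x)
    (h1 : Commute (D.F.j 3 4) x) : x ∈ D.F.J := by
  obtain ⟨a, ha, b, hb, rfl⟩ := Q_split D hx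
  have c0 : Commute (D.F.j 0 1) a := by
    have := h0.mul_right (D.comm 0 1 (by decide) _ D.j_zero.1 b hb).inv_right
    rwa [mul_inv_cancel_right] at this
  have c1 : Commute (D.F.j 3 4) b := by
    have := ((D.comm 1 0 (by decide) _ D.j_one.1 a ha).inv_right).mul_right h1
    rwa [inv_mul_cancel_left] at this
  exact mul_mem (QJ_of_comm D H (by decide) D.j_zero.1 ha c0) (QJ_of_comm D H (by decide) D.j_one.1 hb c1)

/-- The pieces of the frame in the blocks. -/
def JQ : Subgroup G := D.F.J ⊓ Q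

theorem y0_not_Q (H : Hyp z Q) : D.F.j 0 3 * D.F.j 1 3 ∉ Q := by
  intro hy
  have hy' := D.j_inf _ (mul_mem (j_mem D.F _ _) (j_mem D.F _ _)) hy
  have key : ∀ x ∈ closure ({D.F.j 0 1, D.F.j 1 2, D.F.j 3 4, D.F.j 4 5} : Set G),
      ∃ v : V6, wsum v = 0 ∧ v 0 + v 1 + v 2 = 0 ∧ x = el D.F v := by
    intro x hx
    induction hx using closure_induction with
    | mem w hw =>
      rcases hw with rfl | rfl | rfl | rfl
      all_goals exact ⟨_, by decide +kernel, by decide +kernel, (el_vd D.F _ _).symm⟩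
    | one => exact ⟨0, by decide +kernel, by decide +kernel, (el_zero _).symm⟩
    | mul p q _ _ hp hq =>
      obtain ⟨v, hv, hv', rfl⟩ := hp
      obtain ⟨w, hw, hw', rfl⟩ := hq
      refine ⟨v + w, ?_, ?_, el_mul _ v w⟩
      · linear_combination (norm := (simp only [wsum, Pi.add_apply]; ring)) hv + hw
      · linear_combination (norm := (simp only [Pi.add_apply]; ring)) hv' + hw'
    | inv p _ hp =>
      obtain ⟨v, hv, hv', rfl⟩ := hp
      refine ⟨-v, ?_, ?_, el_inv _ v⟩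
      · linear_combination (norm := (simp only [wsum, Pi.neg_apply]; ring)) -hv
      · linear_combination (norm := (simp only [Pi.neg_apply]; ring)) -hv'
  obtain ⟨v, hv, hv', e⟩ := key _ hy'
  rw [← el_vd, ← el_vd, el_mul] at e
  have h := (el_eq_iff D.F (by decide +kernel) hv).1 e
  have h1 := h 1; have h2 := h 2
  simp only [Pi.add_apply, show vd (0 : Fin 6) 3 1 + vd 1 3 1 = 1 from by decide +kernel,
    show vd (0 : Fin 6) 3 0 + vd 1 3 0 = 1 from by decide +kernel,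
    show vd (0 : Fin 6) 3 2 + vd 1 3 2 = 0 from by decide +kernel] at h1 h2
  have h3 : (3 : ZMod 3) = 0 := rfl
  have h4 : (1 : ZMod 3) = 0 := by linear_combination -h1 - h2 - hv' + v 0 * h3
  exact absurd h4 (by decide)

theorem card_JQ (H : Hyp z Q) : Nat.card ↥(JQ D) ≤ 27 := by
  have hp : IsPGroup 3 ↥D.F.J := IsPGroup.of_card (n := 4) (by rw [D.F.card]; rfl)
  haveI : Fact (Nat.Prime 3) := ⟨Nat.prime_three⟩
  obtain ⟨n, hn⟩ := IsPGroup.iff_card.1 (hp.to_le (inf_le_left : JQ D ≤ D.F.J))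
  rw [show Nat.card ↥(JQ D) = 3 ^ n from hn]
  by_contra hlt
  have h4 : 4 ≤ n := by
    by_contra h
    exact hlt ((Nat.pow_le_pow_right (by norm_num) (show n ≤ 3 by omega)).trans (le_of_eq rfl))
  have he : JQ D = D.F.J := eq_of_le_of_card_ge inf_le_left (by
    rw [D.F.card, show Nat.card ↥(JQ D) = 3 ^ n from hn]; exact (show (81 : ℕ) = 3 ^ 4 from rfl) ▸ Nat.pow_le_pow_right (by norm_num) h4)
  exact y0_not_Q D H (he.ge (mul_mem (j_mem D.F _ _) (j_mem D.F _ _))).2

/-- The centraliser in `C(z)` of the frame inside `Q` is the centraliser of the frame. -/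
theorem cent_JQ (H : Hyp z Q) {g : G} (hgz : g ∈ centralizer ({z} : Set G))
    (h0 : Commute g (D.F.j 0 1)) (h1 : Commute g (D.F.j 3 4)) : g ∈ centralizer (D.F.J : Set G) := by
  classical
  haveI : Fact (Nat.Prime 3) := ⟨Nat.prime_three⟩
  set C := centralizer ({z} : Set G)
  set S := C ⊓ centralizer ({D.F.j 0 1, D.F.j 3 4} : Set G) with hS
  have hmS : ∀ x, x ∈ S ↔ x ∈ C ∧ Commute (D.F.j 0 1) x ∧ Commute (D.F.j 3 4) x := fun x => by
    rw [hS, Subgroup.mem_inf]
    refine and_congr_right fun _ => ?_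
    rw [mem_centralizer_iff]
    simp [Set.mem_insert_iff, commute_iff_eq]
  have hblock : ∀ x ∈ S, ∀ i, ∀ y, y ∈ D.Qi i → x * y * x⁻¹ ∈ D.Qi i := by
    intro x hx i y hy
    obtain ⟨hxC, hx0, hx1⟩ := (hmS x).1 hx
    obtain ⟨k, hk⟩ := D.perm x hxC i
    rcases eq_or_ne k i with rfl | hki
    · exact (hk y).1 hy
    exfalso
    fin_cases i
    · have h := (hk _).1 D.j_zero.1
      rw [← hx0.eq, mul_inv_cancel_right] at h
      exact j_not_z D H 0 1 (by decide) (D.centre k _ h fun w hw => D.comm 0 k (Ne.symm hki) _ D.j_zero.1 w hw)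
    · have h := (hk _).1 D.j_one.1
      rw [← hx1.eq, mul_inv_cancel_right] at h
      exact j_not_z D H 3 4 (by decide) (D.centre k _ h fun w hw => D.comm 1 k (Ne.symm hki) _ D.j_one.1 w hw)
  have hker : ∀ x ∈ S, x ∈ Q → x ∈ JQ D := fun x hx hxQ =>
    ⟨Q_cent_JQ D H hxQ ((hmS x).1 hx).2.1 ((hmS x).1 hx).2.2, hxQ⟩
  have hcube : ∀ x ∈ S, x ^ 3 ∈ Q := by
    intro x hx
    obtain ⟨hxC, hx0, hx1⟩ := (hmS x).1 hx
    obtain ⟨q, hq, r, hr, s, hs, e⟩ := M_split D H (D.odd x hxC fun y hy => hblock x hx 0 y hy)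
    have c0 : Commute (q * r * s) (D.F.j 0 1) := e ▸ (hx0.symm.pow_left 3)
    have c1 : Commute (q * r * s) (D.F.j 3 4) := e ▸ (hx1.symm.pow_left 3)
    have hfix : ∀ {i : Fin 2} {u w y : G}, u ∈ D.R i → y ∈ D.Qi i → y ∉ zpowers z → Commute w y →
        Commute (q * (u * w)) y → u = 1 := by
      intro i u w y hu hy hyz hwy hc
      refine D.faith i u hu y hy hyz ?_
      have h1 : u * y * u⁻¹ = q⁻¹ * y * q := by
        calc u * y * u⁻¹ = q⁻¹ * ((q * (u * w)) * y * (q * (u * w))⁻¹) * q := by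
              rw [show u * y * u⁻¹ = u * (w * y * w⁻¹) * u⁻¹ by rw [hwy.eq, mul_inv_cancel_right]]
              group
          _ = q⁻¹ * y * q := by rw [hc.eq, mul_inv_cancel_right]
      rw [h1]
      simpa using comm_mem_z H (inv_mem hq) (D.le i hy)
    have hr1 : r = 1 := hfix hr D.j_zero.1 (j_not_z D H 0 1 (by decide))
      (D.R_cent 1 0 (by decide) s hs _ D.j_zero.1) (by rwa [← mul_assoc])
    have hs1 : s = 1 := hfix hs D.j_one.1 (j_not_z D H 3 4 (by decide))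
      (D.R_cent 0 1 (by decide) r hr _ D.j_one.1) (by rw [← (D.R_comm r hr s hs).eq, ← mul_assoc]; exact c1)
    rw [e, hr1, hs1, mul_one, mul_one]
    exact hq
  have hp : IsPGroup 3 ↥S := fun x => ⟨2, Subtype.ext (by
    show (x : G) ^ 3 ^ 2 = 1
    rw [show 3 ^ 2 = 3 * 3 by rfl, pow_mul]
    exact D.cube _ (hcube x x.2))⟩
  set Qc := Q.subgroupOf C
  haveI hQn : Qc.Normal := normal_subgroupOf_of_le_normalizer H.normal
  let f : ↥S →* ↥C ⧸ Qc := (QuotientGroup.mk' Qc).comp (inclusion (inf_le_left : S ≤ C))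
  have hk27 : Nat.card ↥f.ker ≤ 27 := by
    refine (Nat.card_le_card_of_injective (fun x : ↥f.ker => (⟨x.1.1, hker _ x.1.2 ?_⟩ : ↥(JQ D))) ?_).trans
      (card_JQ D H)
    · have := MonoidHom.mem_ker.1 x.2
      rw [MonoidHom.comp_apply, QuotientGroup.mk'_apply, QuotientGroup.eq_one_iff] at this
      exact this
    · intro a b e
      exact Subtype.ext (Subtype.ext (congrArg (Subtype.val : ↥(JQ D) → G) e :))
  obtain ⟨m, hm⟩ : ∃ m, Nat.card ↥f.range = 3 ^ m :=
    IsPGroup.iff_card.1 (hp.of_surjective f.rangeRestrict f.rangeRestrict_surjective)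
  have hSeq : Nat.card ↥S = 3 ^ m * Nat.card ↥f.ker := by
    rw [f.ker.card_eq_card_quotient_mul_card_subgroup,
      Nat.card_congr (QuotientGroup.quotientKerEquivRange f).toEquiv, hm]
  have hdvd : 243 * 3 ^ m ∣ Nat.card ↥C := by
    rw [← hm, Qc.card_eq_card_quotient_mul_card_subgroup,
      Nat.card_congr (subgroupOfEquivOfLe H.le).toEquiv, H.card, mul_comm 243,
      show (3 : ℕ) ^ 5 = 243 from rfl]
    exact mul_dvd_mul_right (card_subgroup_dvd_card _) _
  have hm2 : m ≤ 2 := by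
    have h7 : 3 ^ (5 + m) ∣ 3 ^ 7 := by
      have h := hdvd.trans D.dvd
      rw [show 243 * 3 ^ m = 3 ^ (5 + m) by rw [pow_add]; rfl,
        show 3 ^ 5 * 2 ^ 7 * 3 ^ 2 = 3 ^ 7 * 2 ^ 7 by norm_num] at h
      exact (Nat.Coprime.pow _ _ (by norm_num : Nat.Coprime 3 2)).dvd_of_dvd_mul_right h
    exact Nat.le_of_add_le_add_left ((Nat.pow_dvd_pow_iff_le_right (by norm_num)).1 h7 : 5 + m ≤ 5 + 2)
  have hle : centralizer (D.F.J : Set G) ≤ S := fun x hx => (hmS x).2
    ⟨mem_centralizer_singleton_iff.2 (mem_centralizer_iff.1 hx z (zpow_z_J D (mem_zpowers z))).symm,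
      mem_centralizer_iff.1 hx _ (j_mem D.F _ _), mem_centralizer_iff.1 hx _ (j_mem D.F _ _)⟩
  have heq : centralizer (D.F.J : Set G) = S := by
    refine eq_of_le_of_card_ge hle ?_
    rw [hSeq]
    by_cases hw : 3 ^ 7 ∣ Nat.card ↥C
    · obtain ⟨W⟩ := D.wide hw
      rw [W.card]
      exact (Nat.mul_le_mul (Nat.pow_le_pow_right (by norm_num) hm2) hk27).trans (le_of_eq rfl)
    · have hm1 : m ≤ 1 := by
        by_contra h
        exact hw ((show 3 ^ 7 ∣ 243 * 3 ^ m from by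
          rw [show 243 * 3 ^ m = 3 ^ (5 + m) by rw [pow_add]; rfl]
          exact pow_dvd_pow 3 (by omega)).trans hdvd)
      rw [D.narrow hw, D.F.card]
      exact (Nat.mul_le_mul (Nat.pow_le_pow_right (by norm_num) hm1) hk27).trans (le_of_eq rfl)
  rw [heq]
  exact (hmS g).2 ⟨hgz, h0.symm, h1.symm⟩

end Cfsg.Agent.U62Three.K
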