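import Cfsg.Agent.U62Three.K.Z.Local

/-!
# The frame with the places of the transposition moved to the end
-/

set_option autoImplicit false
set_option linter.unusedSectionVars false

open Subgroup

namespace Cfsg.Agent.U62Three.K

universe u

variable {G : Type u} [Group G] {z : G}

/-- The change of places: `i ↦ i + 2`. -/
def shift : Equiv.Perm (Fin 6) := Equiv.addRight 2

/-- The place of a point in the old numbering. -/
def up (i : Fin 4) : Fin 6 := Fin.natAdd 2 i

theorem shift_up (i : Fin 4) : shift (i.castLE (by omega)) = up i := by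
  fin_cases i <;> rfl

/-- The same frame renumbered. -/
def relab (Φ : Frame z) : Frame (Φ.j 2 3 * Φ.j 4 3) where
  j a b := Φ.j (shift a) (shift b)
  J := Φ.J
  span := by
    rw [Φ.span]
    congr 1
    ext x
    constructor
    · rintro ⟨⟨a, b⟩, rfl⟩
      exact ⟨(shift.symm a, shift.symm b), by simp⟩
    · rintro ⟨⟨a, b⟩, rfl⟩
      exact ⟨(shift a, shift b), rfl⟩
  cube _ _ := Φ.cube _ _
  comm _ _ _ _ := Φ.comm _ _ _ _
  cocycle _ _ _ := Φ.cocycle _ _ _
  card := Φ.card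
  hz := rfl
  perm σ := by
    obtain ⟨n, hn, h⟩ := Φ.perm (shift.symm.trans (σ.trans shift))
    exact ⟨n, hn, fun a b => by simp [h]⟩
  sig := Φ.sig

theorem relab_root (Φ : Frame z) (k l : Fin 4) : root (relab Φ) k l = Φ.j (up k) (up l) := by
  show Φ.j _ _ = _
  rw [shift_up, shift_up]

theorem relab_pt (Φ : Frame z) (i : Fin 4) : pt (relab Φ) i = Φ.j 0 (up i) * Φ.j 1 (up i) := by
  show Φ.j (shift (i.castLE _)) (shift 4) * Φ.j (shift 5) (shift 4) = _
  rw [shift_up, show shift 4 = 0 from rfl, show shift 5 = 1 from rfl]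
  have key : ∀ i : Fin 4, wsum (vd (up i) 0 + vd 1 0) = 0 ∧ wsum (vd 0 (up i) + vd 1 (up i)) = 0 ∧
      Same (vd (up i) 0 + vd 1 0) (vd 0 (up i) + vd 1 (up i)) := by decide +kernel
  rw [← el_vd Φ, ← el_vd Φ, ← el_vd Φ, ← el_vd Φ, el_mul, el_mul]
  exact (el_eq_iff Φ (key i).1 (key i).2.1).2 (key i).2.2

theorem relab_pt_facts {Q : Subgroup G} (D : Facts z Q) (i : Fin 4) : pt (relab D.F) i = D.pt i :=
  relab_pt D.F i

theorem pt_zero {Q : Subgroup G} (D : Facts z Q) : D.pt 0 = z := by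
  show D.F.j 0 2 * D.F.j 1 2 = z
  rw [← D.F.cocycle 0 1 2, mul_assoc, j_sq, ← D.F.hz]

/-- A difference of unit vectors determines its ends. -/
theorem j_inj (Φ : Frame z) {a b c d : Fin 6} (hab : a ≠ b) (h : Φ.j a b = Φ.j c d) : a = c ∧ b = d := by
  have key : ∀ a b c d : Fin 6, wsum (vd a b) = 0 ∧ wsum (vd c d) = 0 ∧
      (a ≠ b → Same (vd a b) (vd c d) → a = c ∧ b = d) := by decide +kernel
  rw [← el_vd Φ, ← el_vd Φ] at h
  obtain ⟨h1, h2, h3⟩ := key a b c d
  exact h3 hab ((el_eq_iff Φ h1 h2).1 h)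

theorem relab_tact {Q : Subgroup G} (D : Facts z Q) (a b : Fin 6) :
    D.t 0 * (relab D.F).j a b * (D.t 0)⁻¹ =
      (relab D.F).j (Equiv.swap 4 5 a) (Equiv.swap 4 5 b) := by
  have key : ∀ a : Fin 6, shift (Equiv.swap 4 5 a) = Equiv.swap 0 1 (shift a) := by decide
  show D.t 0 * D.F.j _ _ * (D.t 0)⁻¹ = D.F.j _ _
  rw [key, key, D.t_zero]

end Cfsg.Agent.U62Three.K
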