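import Cfsg.Agent.U62Three.K.Z.AtZ

/-!
# The four points: moving the facts at `z` by the normaliser of the frame
-/

set_option autoImplicit false
set_option linter.unusedSectionVars false

open Subgroup Pointwise

namespace Cfsg.Agent.U62Three.K

universe u

/-- The image of a subgroup under conjugation. -/
def cj {G : Type u} [Group G] (n : G) (H : Subgroup G) : Subgroup G := H.map (MulAut.conj n).toMonoidHom

theorem mem_cj {G : Type u} [Group G] {n x : G} {H : Subgroup G} : x ∈ cj n H ↔ n⁻¹ * x * n ∈ H := by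
  constructor
  · rintro ⟨w, hw, rfl⟩
    simp only [MulEquiv.coe_toMonoidHom, MulAut.conj_apply]
    rwa [show n⁻¹ * (n * w * n⁻¹) * n = w by group]
  · intro h
    exact ⟨_, h, by simp only [MulEquiv.coe_toMonoidHom, MulAut.conj_apply]; group⟩

theorem cj_mul {G : Type u} [Group G] (m n : G) (H : Subgroup G) : cj m (cj n H) = cj (m * n) H := by
  ext x
  rw [mem_cj, mem_cj, mem_cj, show (m * n)⁻¹ * x * (m * n) = n⁻¹ * (m⁻¹ * x * m) * n by group]

theorem cj_one {G : Type u} [Group G] (H : Subgroup G) : cj 1 H = H := by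
  ext x
  simp [mem_cj]

theorem cj_of_mem {G : Type u} [Group G] {n : G} {H : Subgroup G} (hn : n ∈ normalizer (H : Set G)) :
    cj n H = H := by
  ext x
  rw [mem_cj, mem_normalizer_iff.1 hn]
  rw [show n * (n⁻¹ * x * n) * n⁻¹ = x by group]

theorem cj_card {G : Type u} [Group G] (n : G) (H : Subgroup G) : Nat.card ↥(cj n H) = Nat.card ↥H :=
  card_map_of_injective (MulAut.conj n).injective

theorem cj_mono {G : Type u} [Group G] {n : G} {H L : Subgroup G} (h : H ≤ L) : cj n H ≤ cj n L :=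
  Subgroup.map_mono h

theorem cj_cent {G : Type u} [Group G] (n x : G) :
    cj n (centralizer ({x} : Set G)) = centralizer ({n * x * n⁻¹} : Set G) := by
  ext w
  rw [mem_cj, mem_centralizer_singleton_iff, mem_centralizer_singleton_iff]
  constructor <;> intro h
  · calc w * (n * x * n⁻¹) = n * (n⁻¹ * w * n * x) * n⁻¹ := by group
      _ = n * (x * (n⁻¹ * w * n)) * n⁻¹ := by rw [h]
      _ = n * x * n⁻¹ * w := by group
  · calc n⁻¹ * w * n * x = n⁻¹ * (w * (n * x * n⁻¹)) * n := by group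
      _ = n⁻¹ * (n * x * n⁻¹ * w) * n := by rw [h]
      _ = x * (n⁻¹ * w * n) := by group

variable {G : Type u} [Group G] [Finite G] {z : G} {Q : Subgroup G} (D : Facts z Q)

/-- The normaliser of the frame in the centraliser of `t`. -/
abbrev nt : Subgroup G := normalizer (D.F.J : Set G) ⊓ centralizer ({D.t 0} : Set G)

theorem t_normJ : D.t 0 ∈ normalizer (D.F.J : Set G) := by
  refine mem_normalizer_fintype fun x hx => ?_
  have hle : D.F.J ≤ D.F.J.comap (MulAut.conj (D.t 0)).toMonoidHom := by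
    conv_lhs => rw [D.F.span]
    rw [closure_le]
    rintro _ ⟨⟨a, b⟩, rfl⟩
    show D.t 0 * D.F.j a b * (D.t 0)⁻¹ ∈ D.F.J
    rw [D.t_zero]
    exact j_mem D.F _ _
  exact hle hx

theorem cj_J {n : G} (hn : n ∈ nt D) : cj n D.F.J = D.F.J := cj_of_mem hn.1

theorem cj_ct {n : G} (hn : n ∈ nt D) :
    cj n (centralizer ({D.t 0} : Set G)) = centralizer ({D.t 0} : Set G) := by
  rw [cj_cent, mem_centralizer_singleton_iff.1 hn.2, mul_inv_cancel_right]

/-- A permutation commuting with the transposition comes from the centraliser of the involution. -/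
theorem lift_perm (σ : Equiv.Perm (Fin 6)) (hσ : ∀ a, σ (Equiv.swap 0 1 a) = Equiv.swap 0 1 (σ a)) :
    ∃ n ∈ nt D, ∀ a b, n * D.F.j a b * n⁻¹ = D.F.j (σ a) (σ b) := by
  obtain ⟨n, hn, h⟩ := D.F.perm σ
  set t := D.t 0 with ht
  have htt : t * t = 1 := t_sq D 0
  have hti : t⁻¹ = t := t_inv_self D 0
  set c := n * t * n⁻¹ * t⁻¹ with hc
  have hbj : ∀ a b, c * D.F.j a b * c⁻¹ = D.F.j a b := by
    intro a b
    have e1 : t⁻¹ * D.F.j a b * t = D.F.j (Equiv.swap 0 1 a) (Equiv.swap 0 1 b) := by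
      rw [← D.t_zero, hti]
    have e2 : ∀ p q, n⁻¹ * D.F.j p q * n = D.F.j (σ.symm p) (σ.symm q) := fun p q => by
      have := h (σ.symm p) (σ.symm q)
      rw [Equiv.apply_symm_apply, Equiv.apply_symm_apply] at this
      rw [← this]
      group
    calc c * D.F.j a b * c⁻¹ = n * (t * (n⁻¹ * (t⁻¹ * D.F.j a b * t) * n) * t⁻¹) * n⁻¹ := by
          rw [hc]; group
      _ = D.F.j a b := by
        rw [e1, e2, ht, D.t_zero, h, hσ, hσ, Equiv.apply_symm_apply, Equiv.apply_symm_apply,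
          Equiv.swap_apply_self, Equiv.swap_apply_self]
  have hcC : c ∈ centralizer (D.F.J : Set G) := by
    have hle : D.F.J ≤ centralizer ({c} : Set G) := by
      rw [D.F.span, closure_le]
      rintro _ ⟨⟨a, b⟩, rfl⟩
      exact mem_centralizer_singleton_iff.2 (mul_inv_eq_iff_eq_mul.1 (hbj a b)).symm
    exact mem_centralizer_iff.2 fun w hw => mem_centralizer_singleton_iff.1 (hle hw)
  haveI : Fact (Nat.Prime 3) := ⟨Nat.prime_three⟩
  obtain ⟨k, hk⟩ := D.centJ ⟨c, hcC⟩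
  replace hk : c ^ (3 ^ k) = 1 := congrArg Subtype.val hk
  have hinv : t * c * t⁻¹ = c⁻¹ := by
    rw [hc]
    calc t * (n * t * n⁻¹ * t⁻¹) * t⁻¹ = t * n * t * n⁻¹ * (t * t)⁻¹ := by group
      _ = t * n * t⁻¹ * n⁻¹ := by rw [htt, hti, inv_one, mul_one]
      _ = (n * t * n⁻¹ * t⁻¹)⁻¹ := by group
  obtain ⟨m, hm⟩ : ∃ m : ℕ, 3 ^ k + 1 = m + m := (Odd.pow (n := k) (by decide : Odd 3)).add_one
  set d := (c ^ m)⁻¹ with hd
  have hdd : d * d * c = 1 := by
    rw [hd, ← mul_inv_rev, ← pow_add, ← hm, pow_succ, hk, one_mul, inv_mul_cancel]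
  have hdt : t * d * t⁻¹ = d⁻¹ := by
    rw [hd, ← conj_inv, ← conj_pow, hinv, inv_pow, inv_inv]
  refine ⟨d * n, ⟨mul_mem (centralizer_le_normalizer _ (inv_mem (pow_mem hcC m))) hn,
    mem_centralizer_singleton_iff.2 ?_⟩, fun a b => ?_⟩
  · calc d * n * t = d * c * t * n := by rw [hc]; group
      _ = d⁻¹ * t * n := by
        congr 2
        exact eq_inv_of_mul_eq_one_right (by rw [← mul_assoc]; exact hdd)
      _ = t * (d * n) := by rw [← hdt]; group
  · have hdc : Commute d (D.F.j (σ a) (σ b)) :=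
      (mem_centralizer_iff.1 (inv_mem (pow_mem hcC m)) _ (j_mem D.F _ _)).symm
    calc d * n * D.F.j a b * (d * n)⁻¹ = d * (n * D.F.j a b * n⁻¹) * d⁻¹ := by group
      _ = _ := by rw [h, hdc.eq, mul_inv_cancel_right]

theorem swap_up : ∀ i : Fin 4, ∀ a : Fin 6,
    Equiv.swap (2 : Fin 6) (up i) (Equiv.swap 0 1 a) = Equiv.swap 0 1 (Equiv.swap 2 (up i) a) := by
  decide +kernel

/-- The chosen element moving `z` to a point. -/
noncomputable def mv (i : Fin 4) : G := (lift_perm D (Equiv.swap 2 (up i)) (swap_up i)).choose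

theorem mv_mem (i : Fin 4) : mv D i ∈ nt D :=
  (lift_perm D (Equiv.swap 2 (up i)) (swap_up i)).choose_spec.1

theorem mv_j (i : Fin 4) (a b : Fin 6) :
    mv D i * D.F.j a b * (mv D i)⁻¹ = D.F.j (Equiv.swap 2 (up i) a) (Equiv.swap 2 (up i) b) :=
  (lift_perm D (Equiv.swap 2 (up i)) (swap_up i)).choose_spec.2 a b

theorem mv_pt (i k : Fin 4) :
    mv D i * D.pt k * (mv D i)⁻¹ = D.pt (Equiv.swap 0 i k) := by
  have key : ∀ i k : Fin 4, Equiv.swap (2 : Fin 6) (up i) 0 = 0 ∧ Equiv.swap (2 : Fin 6) (up i) 1 = 1 ∧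
      Equiv.swap (2 : Fin 6) (up i) (up k) = up (Equiv.swap 0 i k) := by decide +kernel
  obtain ⟨h0, h1, h2⟩ := key i k
  show mv D i * (D.F.j 0 (up k) * D.F.j 1 (up k)) * (mv D i)⁻¹ = D.F.j 0 (up _) * D.F.j 1 (up _)
  rw [← conj_mul, mv_j, mv_j, h0, h1, h2]

theorem mv_z (i : Fin 4) : mv D i * z * (mv D i)⁻¹ = D.pt i := by
  have := mv_pt D i 0
  rwa [pt_zero, Equiv.swap_apply_left] at this

/-- The centraliser of a point in the centraliser of `t`. -/
theorem cj_cz (i : Fin 4) :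
    cj (mv D i) (centralizer ({D.t 0} : Set G) ⊓ centralizer ({z} : Set G)) =
      centralizer ({D.t 0} : Set G) ⊓ centralizer ({D.pt i} : Set G) := by
  rw [cj, map_inf _ _ _ (MulAut.conj (mv D i)).injective, ← cj, ← cj, cj_ct D (mv_mem D i), cj_cent, mv_z]

/-- The quaternion group at a point, the block and its quaternion group. -/
noncomputable def Rq (i : Fin 4) : Subgroup G := cj (mv D i) (D.R 0)
/-- The block at a point. -/
noncomputable def Bq (i : Fin 4) : Subgroup G := cj (mv D i) (D.Qi 1)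
/-- Its quaternion group. -/
noncomputable def Pq (i : Fin 4) : Subgroup G := cj (mv D i) (D.R 1)

theorem R0_le : D.R 0 ≤ centralizer ({D.t 0} : Set G) ⊓ centralizer ({z} : Set G) := fun _ hr =>
  ⟨mem_centralizer_singleton_iff.2 (tR D hr).eq, D.R_le 0 hr⟩

theorem Rq_le (i : Fin 4) : Rq D i ≤ centralizer ({D.t 0} : Set G) ⊓ centralizer ({D.pt i} : Set G) := by
  rw [← cj_cz]
  exact cj_mono (R0_le D)

theorem Rq_norm (H : Hyp z Q) (i : Fin 4) :
    centralizer ({D.t 0} : Set G) ⊓ centralizer ({D.pt i} : Set G) ≤ normalizer (Rq D i : Set G) := by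
  rw [← cj_cz]
  rintro _ ⟨w, hw, rfl⟩
  refine mem_normalizer_fintype fun x hx => ?_
  rw [SetLike.mem_coe, Rq, mem_cj] at hx ⊢
  simp only [MulEquiv.coe_toMonoidHom, MulAut.conj_apply]
  have := (mem_normalizer_iff.1 (norm_R0 D H hw) _).1 hx
  convert this using 1
  group

theorem Rq_max (H : Hyp z Q) (i : Fin 4) {X : Subgroup G}
    (hX : X ≤ centralizer ({D.t 0} : Set G) ⊓ centralizer ({D.pt i} : Set G)) (hc : (Nat.card ↥X).Coprime 3)
    (hn : D.F.J ⊓ centralizer ({D.t 0} : Set G) ≤ normalizer (X : Set G)) : X ≤ Rq D i := by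
  set n := mv D i
  have h1 : cj n⁻¹ X ≤ D.R 0 := by
    refine max_zero D H ?_ (by rwa [cj_card]) ?_
    · intro x hx
      rw [mem_cj, inv_inv] at hx
      have := hX hx
      rw [← cj_cz, mem_cj] at this
      rwa [show n⁻¹ * (n * x * n⁻¹) * n = x by group] at this
    · intro w hw
      have hw' : n * w * n⁻¹ ∈ D.F.J ⊓ centralizer ({D.t 0} : Set G) := by
        refine ⟨(mem_normalizer_iff.1 (mv_mem D i).1 w).1 hw.1, ?_⟩
        exact (mul_mem (mul_mem (mv_mem D i).2 hw.2) (Subgroup.inv_mem _ (mv_mem D i).2) :)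
      refine mem_normalizer_fintype fun x hx => ?_
      rw [SetLike.mem_coe, mem_cj, inv_inv] at hx ⊢
      have := (mem_normalizer_iff.1 (hn hw') _).1 hx
      convert this using 1
      group
  intro x hx
  rw [Rq, mem_cj]
  refine h1 ?_
  rw [mem_cj, inv_inv, show n * (n⁻¹ * x * n) * n⁻¹ = x by group]
  exact hx

/-- An element of the normaliser commuting with `t` permutes the points up to inversion. -/
theorem nt_perm {n : G} (hn : n ∈ nt D) (i : Fin 4) :
    ∃ m, n * D.pt i * n⁻¹ = D.pt m ∨ n * D.pt i * n⁻¹ = (D.pt m)⁻¹ := by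
  obtain ⟨σ, hσ⟩ := D.mono n hn.1
  set t := D.t 0
  have htn : Commute n t := mem_centralizer_singleton_iff.1 hn.2
  have hconj : ∀ w, n * (t * w * t⁻¹) * n⁻¹ = t * (n * w * n⁻¹) * t⁻¹ := fun w => by
    calc n * (t * w * t⁻¹) * n⁻¹ = n * t * w * (n * t)⁻¹ := by group
      _ = t * n * w * (t * n)⁻¹ := by rw [htn.eq]
      _ = _ := by group
  have hcomm : ∀ a, σ (Equiv.swap 0 1 a) = Equiv.swap 0 1 (σ a) := by
    intro a
    obtain ⟨b, hb⟩ : ∃ b : Fin 6, a ≠ b := ⟨if a = 0 then 1 else 0, by fin_cases a <;> decide⟩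
    have h := hconj (D.F.j a b)
    have hne : σ (Equiv.swap 0 1 a) ≠ σ (Equiv.swap 0 1 b) := fun e =>
      hb ((Equiv.swap 0 1).injective (σ.injective e))
    rcases hσ with hσ | hσ
    · rw [D.t_zero, hσ, hσ, D.t_zero] at h
      exact (j_inj D.F hne h).1
    · rw [D.t_zero, hσ, hσ, D.t_zero] at h
      exact (j_inj D.F (Ne.symm hne) h).2
  have key : ∀ i : Fin 4, ∀ p q r : Fin 6, q = Equiv.swap 0 1 p → p ≠ q → r = Equiv.swap 0 1 (r) →
      (p = 0 ∧ q = 1 ∨ p = 1 ∧ q = 0) := by decide +kernel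
  have h0 : σ 1 = Equiv.swap 0 1 (σ 0) := by rw [← hcomm, Equiv.swap_apply_left]
  have hfix : ∀ i : Fin 4, Equiv.swap 0 1 (σ (up i)) = σ (up i) := fun i => by
    rw [← hcomm, Equiv.swap_apply_of_ne_of_ne] <;> (fin_cases i <;> decide)
  obtain ⟨m, hm⟩ : ∃ m : Fin 4, σ (up i) = up m := by
    have : ∀ r : Fin 6, Equiv.swap 0 1 r = r → ∃ m : Fin 4, r = up m := by decide +kernel
    exact this _ (hfix i)
  refine ⟨m, ?_⟩
  have h01 := key i (σ 0) (σ 1) (σ (up i)) h0 (fun e => absurd (σ.injective e) (by decide)) (hfix i).symm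
  have hswap : D.F.j 1 (up m) * D.F.j 0 (up m) = D.pt m := frame_commute (j_mem D.F _ _) (j_mem D.F _ _)
  rcases hσ with hσ | hσ
  · left
    show n * (D.F.j 0 (up i) * D.F.j 1 (up i)) * n⁻¹ = _
    rw [← conj_mul, hσ, hσ, hm]
    rcases h01 with ⟨e0, e1⟩ | ⟨e0, e1⟩ <;> rw [e0, e1]
    · rfl
    · exact hswap
  · right
    show n * (D.F.j 0 (up i) * D.F.j 1 (up i)) * n⁻¹ = _
    rw [← conj_mul, hσ, hσ, hm, ← j_symm, ← j_symm D.F (σ 1), ← mul_inv_rev, inv_inj]
    rcases h01 with ⟨e0, e1⟩ | ⟨e0, e1⟩ <;> rw [e0, e1]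
    · exact hswap
    · rfl

end Cfsg.Agent.U62Three.K
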