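import Cfsg.Agent.U62Three.K.Z.Relabel

/-!
# The local facts at the point `z`
-/

set_option autoImplicit false
set_option linter.unusedSectionVars false

open Subgroup Pointwise

namespace Cfsg.Agent.U62Three.K

universe u

variable {G : Type u} [Group G] [Finite G] {z : G} {Q : Subgroup G} (D : Facts z Q)

/-- A member of the second block normalises the frame. -/
theorem Qi1_normJ (H : Hyp z Q) : D.Qi 1 ≤ normalizer (D.F.J : Set G) := by
  intro x hx
  have hblock : ∀ i w, w ∈ D.Qi i ↔ x * w * x⁻¹ ∈ D.Qi i := by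
    have key : ∀ x ∈ Q, ∀ i w, w ∈ D.Qi i → x * w * x⁻¹ ∈ D.Qi i := fun x hx i w hw => by
      have h1 : x * w * x⁻¹ * w⁻¹ ∈ D.Qi i := zpow_z_mem D i (comm_mem_z H hx (D.le i hw))
      have := mul_mem h1 hw
      rwa [inv_mul_cancel_right] at this
    intro i w
    refine ⟨key x (D.le 1 hx) i w, fun hw => ?_⟩
    have := key x⁻¹ (inv_mem (D.le 1 hx)) i _ hw
    rwa [show x⁻¹ * (x * w * x⁻¹) * x⁻¹⁻¹ = w by group] at this
  refine normJ_of_lines D H (H.le (D.le 1 hx)) hblock ?_ ?_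
  · rw [(D.comm 1 0 (by decide) x hx _ D.j_zero.1).eq, mul_inv_cancel_right]
    exact mem_sup_right (mem_zpowers _)
  · have h1 := comm_mem_z H (D.le 1 hx) (D.le 1 D.j_one.1)
    have := mul_mem (mem_sup_left (T := zpowers (D.F.j 3 4)) h1) (mem_sup_right (mem_zpowers (D.F.j 3 4)))
    rwa [inv_mul_cancel_right] at this

/-- The first quaternion group moves every point other than `z`. -/
theorem free_zero (H : Hyp z Q) {r : G} (hr : r ∈ D.R 0) (h : Commute r (D.F.j 0 3 * D.F.j 1 3)) :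
    r = 1 ∨ r = D.t 0 := by
  set y := D.F.j 0 3 * D.F.j 1 3
  set j := D.F.j 0 1
  have hj : j ∈ D.Qi 0 := D.j_zero.1
  have hjz := j_not_z D H 0 1 (by decide)
  have hw : r * j * r⁻¹ ∈ D.Qi 0 := (mem_normalizer_iff.1 (D.R_norm 0 0 hr) j).1 hj
  have hyw : Commute (r * j * r⁻¹) y := by
    have hyj : Commute j y := frame_commute (j_mem D.F _ _) (mul_mem (j_mem D.F _ _) (j_mem D.F _ _))
    have := hyj.map (MulAut.conj r).toMonoidHom
    simp only [MulEquiv.coe_toMonoidHom, MulAut.conj_apply] at this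
    rwa [h.eq, mul_inv_cancel_right] at this
  have hwJ := D.centQ _ (D.le 0 hw) hyw
  have hwE := cent_in_block D H hj hjz hw (frame_commute (j_mem D.F _ _) hwJ)
  have hn : zpowers j ≤ normalizer (zpowers z : Set G) := by
    refine zpowers_le.2 (centralizer_le_normalizer _ (mem_centralizer_iff.2 fun u hu => ?_))
    obtain ⟨k, rfl⟩ := mem_zpowers_iff.1 hu
    exact ((z_comm_Q H (D.le 0 hj)).zpow_left k).eq
  have hwE' : r * j * r⁻¹ ∈ (↑(zpowers z ⊔ zpowers j) : Set G) := hwE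
  rw [coe_mul_of_right_le_normalizer_left _ _ hn] at hwE'
  obtain ⟨u, hu, v, hv, huv⟩ := hwE'
  obtain ⟨k, rfl⟩ := mem_zpowers_iff.1 hv
  have h3 : j ^ (3 : ℤ) = 1 := by
    rw [show (3 : ℤ) = ((3 : ℕ) : ℤ) from rfl, zpow_natCast]; exact D.cube j (D.le 0 hj)
  replace huv : u * j ^ (k % 3) = r * j * r⁻¹ := by
    rw [← huv, show j ^ (k % 3) = j ^ k by
      conv_rhs => rw [← Int.emod_add_mul_ediv k 3, zpow_add, zpow_mul, h3, one_zpow, mul_one]]
  rcases (show k % 3 = 0 ∨ k % 3 = 1 ∨ k % 3 = 2 by omega) with e | e | e <;> rw [e] at huv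
  · exfalso
    rw [zpow_zero, mul_one] at huv
    obtain ⟨m, rfl⟩ := mem_zpowers_iff.1 hu
    have hc : Commute r (z ^ m) := (show Commute r z from mem_centralizer_singleton_iff.1 (D.R_le 0 hr)).zpow_right m
    refine hjz ?_
    have : j = r⁻¹ * z ^ m * r := by rw [huv]; group
    show j ∈ zpowers z
    rw [this, mul_assoc, ← hc.eq, inv_mul_cancel_left]
    exact hu
  · left
    refine D.faith 0 r hr j hj hjz ?_
    rw [← huv, zpow_one, mul_inv_cancel_right]
    exact hu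
  · right
    have h2 : D.t 0 * r = 1 := by
      refine D.faith 0 _ (mul_mem (D.t_mem 0) hr) j hj hjz ?_
      have hjj : j ^ (2 : ℤ) = j⁻¹ := eq_inv_of_mul_eq_one_left (by rw [← zpow_add_one]; exact h3)
      have htu : D.t 0 * u * (D.t 0)⁻¹ = u := by
        obtain ⟨m, rfl⟩ := mem_zpowers_iff.1 hu
        rw [((show Commute (D.t 0) z from mem_centralizer_singleton_iff.1 (t_cent D 0)).zpow_right m).eq,
          mul_inv_cancel_right]
      have htj : D.t 0 * j⁻¹ * (D.t 0)⁻¹ = j := by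
        rw [← conj_inv, D.t_zero, j_symm]
        rfl
      have e : D.t 0 * r * j * (D.t 0 * r)⁻¹ * j⁻¹ = u := by
       calc D.t 0 * r * j * (D.t 0 * r)⁻¹ * j⁻¹
          = D.t 0 * (r * j * r⁻¹) * (D.t 0)⁻¹ * j⁻¹ := by group
        _ = (D.t 0 * u * (D.t 0)⁻¹) * (D.t 0 * j⁻¹ * (D.t 0)⁻¹) * j⁻¹ := by rw [← huv, hjj]; group
        _ = u := by rw [htu, htj, mul_inv_cancel_right]
      rw [e]
      exact hu
    rw [eq_inv_of_mul_eq_one_right h2, t_inv_self]

/-- The first quaternion group contains the signalisers at `z`. -/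
theorem max_zero (H : Hyp z Q) {X : Subgroup G}
    (hX : X ≤ centralizer ({D.t 0} : Set G) ⊓ centralizer ({z} : Set G)) (hc : (Nat.card ↥X).Coprime 3)
    (hn : D.F.J ⊓ centralizer ({D.t 0} : Set G) ≤ normalizer (X : Set G)) : X ≤ D.R 0 := by
  intro x hx
  obtain ⟨hxt, hxz⟩ := hX hx
  have ht : Commute x (D.t 0) := mem_centralizer_singleton_iff.1 hxt
  have hcop : (orderOf x).Coprime 3 := Nat.Coprime.coprime_dvd_left (Subgroup.orderOf_dvd_natCard _ hx) hc
  have hM : x ∈ Q ⊔ D.R 0 ⊔ D.R 1 := by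
    obtain ⟨m, hm⟩ := exists_pow_eq_self_of_coprime hcop.symm
    rw [← hm]
    exact pow_mem (D.odd x hxz fun y hy => (fix_blocks D hxz ht 0 y).1 hy) m
  obtain ⟨q, hq, r, hr, s, hs, rfl⟩ := M_cent_t D H hM ht
  set j := D.F.j 3 4
  have hj : j ∈ D.Qi 1 := D.j_one.1
  have hjt : j ∈ D.F.J ⊓ centralizer ({D.t 0} : Set G) :=
    ⟨j_mem D.F _ _, mem_centralizer_singleton_iff.2 (tQ1 D hj).symm.eq⟩
  have hdX : q * r * s * j * (q * r * s)⁻¹ * j⁻¹ ∈ X := by
    have h1 : j * (q * r * s)⁻¹ * j⁻¹ ∈ X := (mem_normalizer_iff.1 (hn hjt) _).1 (inv_mem hx)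
    have := mul_mem hx h1
    rwa [show q * r * s * (j * (q * r * s)⁻¹ * j⁻¹) = q * r * s * j * (q * r * s)⁻¹ * j⁻¹ by group] at this
  have hdQ : q * r * s * j * (q * r * s)⁻¹ * j⁻¹ ∈ Q :=
    mul_mem ((mem_normalizer_iff.1 (H.normal hxz) j).1 (D.le 1 hj)) (inv_mem (D.le 1 hj))
  have hd1 : ∀ w ∈ X, w ∈ Q → w = 1 := fun w hwX hwQ => orderOf_eq_one_iff.1 <|
    Nat.eq_one_of_dvd_coprimes hc (Subgroup.orderOf_dvd_natCard _ hwX)
      (orderOf_dvd_of_pow_eq_one (D.cube w hwQ))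
  have hxj : Commute (q * r * s) j := mul_inv_eq_iff_eq_mul.1 (mul_inv_eq_one.1 (hd1 _ hdX hdQ))
  have hs1 : s = 1 := by
    refine D.faith 1 s hs j hj (j_not_z D H 3 4 (by decide)) ?_
    have hsj : s * j * s⁻¹ ∈ D.Qi 1 := (mem_normalizer_iff.1 (D.R_norm 1 1 hs) j).1 hj
    have e : s * j * s⁻¹ = q⁻¹ * j * q := by
      calc s * j * s⁻¹ = (r⁻¹ * q⁻¹) * (q * r * s * j * (q * r * s)⁻¹) * (q * r) := by group
        _ = r⁻¹ * (q⁻¹ * j * q) * r := by rw [hxj.eq, mul_inv_cancel_right]; group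
        _ = q⁻¹ * j * q := by
          rw [mul_assoc r⁻¹, ← (D.R_cent 0 1 (by decide) r hr (q⁻¹ * j * q)
            (mul_mem (mul_mem (inv_mem hq) hj) hq)).eq, inv_mul_cancel_left]
    rw [e]
    simpa using comm_mem_z H (inv_mem (D.le 1 hq)) (D.le 1 hj)
  subst hs1
  rw [mul_one] at hx ⊢
  have hqr : Commute q r := (D.R_cent 0 1 (by decide) r hr q hq).symm
  have hr4 : r ^ 4 = 1 := by
    rcases (cover_R D 0).1.sq r hr with h | h <;>
      rw [show r ^ 4 = (r * r) * (r * r) by simp only [pow_succ, pow_zero, one_mul, mul_assoc], h] <;>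
      simp [t_sq D 0]
  have hqX : q ∈ X := by
    have h4 := pow_mem hx 4
    rwa [hqr.mul_pow, hr4, mul_one, pow_succ, D.cube q (D.le 1 hq), one_mul] at h4
  rw [hd1 q hqX (D.le 1 hq), one_mul]
  exact hr

/-- The centraliser at `z` is generated by the two quaternion groups and the normaliser of the frame. -/
theorem pt_gen_zero (H : Hyp z Q) :
    centralizer ({D.t 0} : Set G) ⊓ centralizer ({z} : Set G) ≤
      D.R 0 ⊔ D.R 1 ⊔ (normalizer (D.F.J : Set G) ⊓ centralizer ({D.t 0} : Set G)) := by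
  rintro g ⟨hgt, hgz⟩
  have ht : Commute g (D.t 0) := mem_centralizer_singleton_iff.1 hgt
  have hfix := fix_blocks D hgz ht
  have hzg : g⁻¹ * z * g = z := by
    rw [mul_assoc, ← (show Commute g z from mem_centralizer_singleton_iff.1 hgz).eq, inv_mul_cancel_left]
  have hnot : ∀ w, w ∉ zpowers z → g * w * g⁻¹ ∉ zpowers z := fun w hw h => hw (by
    obtain ⟨m, hm⟩ := mem_zpowers_iff.1 h
    have : w = g⁻¹ * z ^ m * g := by rw [hm]; group
    have hc : Commute g (z ^ m) := (show Commute g z from mem_centralizer_singleton_iff.1 hgz).zpow_right m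
    rw [this, mul_assoc, ← hc.eq, inv_mul_cancel_left]
    exact zpow_mem (mem_zpowers z) m)
  obtain ⟨r, hr, hr'⟩ := block_trans D H ((hfix 0 _).1 D.j_zero.1) (hnot _ (j_not_z D H 0 1 (by decide)))
    D.j_zero.1 (j_not_z D H 0 1 (by decide))
  obtain ⟨s, hs, hs'⟩ := block_trans D H ((hfix 1 _).1 D.j_one.1) (hnot _ (j_not_z D H 3 4 (by decide)))
    D.j_one.1 (j_not_z D H 3 4 (by decide))
  set n := s * r * g with hn
  have hnz : n ∈ centralizer ({z} : Set G) := mul_mem (mul_mem (D.R_le 1 hs) (D.R_le 0 hr)) hgz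
  have hnt : n ∈ centralizer ({D.t 0} : Set G) := mul_mem (mul_mem
    (mem_centralizer_singleton_iff.2 (tR D hs).eq) (mem_centralizer_singleton_iff.2 (tR D hr).eq)) hgt
  have line : ∀ {a b : G}, b⁻¹ * a ∈ zpowers z → a ∈ zpowers z ⊔ zpowers b := fun {a b} h => by
    have := mul_mem (mem_sup_right (S := zpowers z) (mem_zpowers b)) (mem_sup_left (T := zpowers b) h)
    rwa [mul_inv_cancel_left] at this
  have hnJ : n ∈ normalizer (D.F.J : Set G) := by
    refine normJ_of_lines D H hnz (fix_blocks D hnz (mem_centralizer_singleton_iff.1 hnt)) ?_ ?_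
    · refine line ?_
      have hrj : r * (g * D.F.j 0 1 * g⁻¹) * r⁻¹ ∈ D.Qi 0 :=
        (mem_normalizer_iff.1 (D.R_norm 0 0 hr) _).1 ((hfix 0 _).1 D.j_zero.1)
      rwa [show n * D.F.j 0 1 * n⁻¹ = s * (r * (g * D.F.j 0 1 * g⁻¹) * r⁻¹) * s⁻¹ by rw [hn]; group,
        (D.R_cent 1 0 (by decide) s hs _ hrj).eq, mul_inv_cancel_right]
    · refine line ?_
      have hw : r * (g * D.F.j 3 4 * g⁻¹) * r⁻¹ = g * D.F.j 3 4 * g⁻¹ := by
        rw [(D.R_cent 0 1 (by decide) r hr _ ((hfix 1 _).1 D.j_one.1)).eq, mul_inv_cancel_right]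
      rwa [show n * D.F.j 3 4 * n⁻¹ = s * (r * (g * D.F.j 3 4 * g⁻¹) * r⁻¹) * s⁻¹ by rw [hn]; group, hw]
  rw [show g = r⁻¹ * s⁻¹ * n by rw [hn]; group]
  exact mul_mem (mul_mem (mem_sup_left (mem_sup_left (inv_mem hr))) (mem_sup_left (mem_sup_right (inv_mem hs))))
    (mem_sup_right ⟨hnJ, hnt⟩)

/-- The members of the second block: powers of `z`, roots, or elements permuting three points cyclically. -/
theorem cases_zero (H : Hyp z Q) {e : G} (he : e ∈ D.Qi 1) :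
    e ∈ zpowers z ∨ (∃ k l : Fin 4, 0 ≠ k ∧ 0 ≠ l ∧ k ≠ l ∧ e = D.F.j (up k) (up l)) ∨
      ∃ σ : Equiv.Perm (Fin 4), σ 0 = 0 ∧ σ ≠ 1 ∧ σ * σ * σ = 1 ∧
        ∀ m, e * D.pt m * e⁻¹ = D.pt (σ m) := by
  by_cases heJ : e ∈ D.F.J
  · have h := cent_in_block D H D.j_one.1 (j_not_z D H 3 4 (by decide)) he
      (frame_commute (j_mem D.F _ _) heJ)
    have hle : zpowers z ⊔ zpowers (D.F.j 3 4) ≤ D.F.J := sup_le (zpow_z_J D) (zpowers_le.2 (j_mem D.F _ _))
    have key : ∀ x ∈ zpowers z ⊔ zpowers (D.F.j 3 4), ∃ a b : Fin 3,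
        x = el D.F (a.val • (vd 0 1 + vd 2 1) + b.val • vd 3 4) := by
      intro x hx
      have hn : zpowers (D.F.j 3 4) ≤ normalizer (zpowers z : Set G) := fun w hw =>
        centralizer_le_normalizer _ (mem_centralizer_iff.2 fun u hu =>
          (frame_commute (zpow_z_J D hu) (hle (mem_sup_right hw))).eq)
      have hx' : x ∈ (↑(zpowers z ⊔ zpowers (D.F.j 3 4)) : Set G) := hx
      rw [coe_mul_of_right_le_normalizer_left _ _ hn] at hx'
      obtain ⟨u, hu, v, hv, rfl⟩ := hx'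
      obtain ⟨m, rfl⟩ := mem_zpowers_iff.1 hv
      obtain ⟨m', rfl⟩ := mem_zpowers_iff.1 hu
      have h3 : ∀ {w : G}, w ∈ D.F.J → ∀ m : ℤ, ∃ a : Fin 3, w ^ m = w ^ a.val := fun {w} hw m => by
        refine ⟨⟨(m % 3).toNat, by omega⟩, ?_⟩
        have e3 : w ^ (3 : ℤ) = 1 := by
          rw [show (3 : ℤ) = 1 + 1 + 1 from rfl, zpow_add, zpow_add, zpow_one, J_cube hw]
        conv_lhs => rw [← Int.emod_add_mul_ediv m 3, zpow_add, zpow_mul, e3, one_zpow, mul_one]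
        rw [← zpow_natCast, Int.toNat_of_nonneg (by omega)]
      obtain ⟨a, ha⟩ := h3 (zpow_z_J D (mem_zpowers z)) m'
      obtain ⟨b, hb⟩ := h3 (j_mem D.F 3 4) m
      refine ⟨a, b, ?_⟩
      show z ^ m' * D.F.j 3 4 ^ m = _
      rw [ha, hb, ← el_mul, ← el_pow, ← el_pow, ← el_mul, el_vd, el_vd, el_vd, ← D.F.hz]
    obtain ⟨a, b, rfl⟩ := key e h
    have kd : ∀ a b : Fin 3, wsum (a.val • (vd 0 1 + vd 2 1) + b.val • vd 3 4) = 0 ∧ (b.val = 0 ∨
        ∃ k l : Fin 4, 0 ≠ k ∧ 0 ≠ l ∧ k ≠ l ∧ wsum (vd (up k) (up l)) = 0 ∧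
          Same (a.val • (vd 0 1 + vd 2 1) + b.val • vd 3 4) (vd (up k) (up l))) := by decide +kernel
    obtain ⟨h1, h2 | ⟨k, l, hk, hl, hkl, h2, h3⟩⟩ := kd a b
    · left
      rw [h2, zero_smul, add_zero, ← el_pow, ← el_mul, el_vd, el_vd, ← D.F.hz]
      exact pow_mem (mem_zpowers z) _
    · exact Or.inr (Or.inl ⟨k, l, hk, hl, hkl, by rw [(el_eq_iff D.F h1 h2).2 h3, el_vd]⟩)
  · right; right
    have hnJ := Qi1_normJ D H he
    obtain ⟨σ, hσ⟩ := D.mono e hnJ
    have hj0 : e * D.F.j 0 1 * e⁻¹ = D.F.j 0 1 := by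
      rw [(D.comm 1 0 (by decide) e he _ D.j_zero.1).eq, mul_inv_cancel_right]
    have hez : e * z * e⁻¹ = z := by rw [(z_comm_Q H (D.le 1 he)).symm.eq, mul_inv_cancel_right]
    have he3 : e * e * e = 1 := by rw [← D.cube e (D.le 1 he), pow_succ, pow_two]
    have three : ∀ w, e * (e * (e * w * e⁻¹) * e⁻¹) * e⁻¹ = w := fun w => by
      rw [show e * (e * (e * w * e⁻¹) * e⁻¹) * e⁻¹ = e * e * e * w * (e * e * e)⁻¹ by group, he3, one_mul,
        inv_one, mul_one]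
    rcases hσ with hσ | hσ
    · have h01 := j_inj D.F (by decide : (0 : Fin 6) ≠ 1) ((hj0.symm.trans (hσ 0 1)))
      have h3 : σ * σ * σ = 1 := by
        refine Equiv.ext fun a => ?_
        obtain ⟨b, hb⟩ : ∃ b : Fin 6, a ≠ b := ⟨if a = 0 then 1 else 0, by fin_cases a <;> decide⟩
        have h := three (D.F.j a b)
        rw [hσ, hσ, hσ] at h
        exact (j_inj D.F hb h.symm).1.symm
      have h1 : σ ≠ 1 := by
        rintro rfl
        refine heJ ?_
        have := cent_in_block D H D.j_one.1 (j_not_z D H 3 4 (by decide)) he (by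
          have := hσ 3 4
          simp only [Equiv.Perm.one_apply] at this
          exact (mul_inv_eq_iff_eq_mul.1 this).symm)
        exact sup_le (zpow_z_J D) (zpowers_le.2 (j_mem D.F _ _)) this
      have h2 : σ 2 = 2 := by
        have h := hσ 0 2
        rw [← h01.1] at h
        have hz2 := hσ 2 1
        rw [← h01.2] at hz2
        have hh : D.F.j 0 1 * D.F.j 2 1 = D.F.j 0 1 * D.F.j (σ 2) 1 := by
          rw [← hz2]
          conv_rhs => rw [← hj0, conj_mul, ← D.F.hz, hez]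
          exact D.F.hz.symm
        exact (j_inj D.F (by decide) (mul_left_cancel hh)).1.symm
      have key : ∀ σ : Equiv.Perm (Fin 6), σ 0 = 0 → σ 1 = 1 → σ 2 = 2 → σ ≠ 1 → σ * σ * σ = 1 →
          ∃ τ : Equiv.Perm (Fin 4), τ 0 = 0 ∧ τ ≠ 1 ∧ τ * τ * τ = 1 ∧ ∀ m, σ (up m) = up (τ m) := by
        decide +kernel
      obtain ⟨τ, h4, h5, h6, h7⟩ := key σ h01.1.symm h01.2.symm h2 h1 h3
      refine ⟨τ, h4, h5, h6, fun m => ?_⟩
      show e * (D.F.j 0 (up m) * D.F.j 1 (up m)) * e⁻¹ = D.F.j 0 (up (τ m)) * D.F.j 1 (up (τ m))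
      rw [← conj_mul, hσ, hσ, h7, ← h01.1, ← h01.2]
    · exfalso
      have hh : ∀ b : Fin 6, D.F.j 2 b = D.F.j (σ (σ (σ b))) (σ (σ (σ 2))) := fun b => by
        have h := three (D.F.j 2 b)
        rw [hσ, hσ, hσ] at h
        exact h.symm
      have h3 := (j_inj D.F (by decide : (2 : Fin 6) ≠ 3) (hh 3)).1
      have h4 := (j_inj D.F (by decide : (2 : Fin 6) ≠ 4) (hh 4)).1
      exact absurd (σ.injective (σ.injective (σ.injective (h3.symm.trans h4)))) (by decide)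

end Cfsg.Agent.U62Three.K
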