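import Cfsg.Agent.U62Three.K.Basic

/-!
# The frame as a space of vectors
-/

set_option autoImplicit false
set_option linter.unusedSectionVars false

open Subgroup

namespace Cfsg.Agent.U62Three.K

universe u

variable {G : Type u} [Group G] {z : G} (Φ : Frame z)

/-- Vectors of length six over GF(3). -/
abbrev V6 : Type := Fin 6 → ZMod 3

/-- The difference of two unit vectors. -/
def vd (a b : Fin 6) : V6 := fun c => (if c = a then 1 else 0) - (if c = b then 1 else 0)

/-- Two vectors differ by a constant. -/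
def Same (v w : V6) : Prop := ∀ c, v c - w c = v 0 - w 0

instance (v w : V6) : Decidable (Same v w) := inferInstanceAs (Decidable (∀ c, _))

/-- The sum of the coordinates. -/
def wsum (v : V6) : ZMod 3 := v 0 + v 1 + v 2 + v 3 + v 4 + v 5

/-- The element of the frame of a vector of sum zero. -/
def el (v : V6) : G :=
  Φ.j 0 5 ^ (v 0).val * Φ.j 1 5 ^ (v 1).val * Φ.j 2 5 ^ (v 2).val * Φ.j 3 5 ^ (v 3).val * Φ.j 4 5 ^ (v 4).val

theorem el_mem (v : V6) : el Φ v ∈ Φ.J :=
  mul_mem (mul_mem (mul_mem (mul_mem (pow_mem (j_mem Φ _ _) _) (pow_mem (j_mem Φ _ _) _))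
    (pow_mem (j_mem Φ _ _) _)) (pow_mem (j_mem Φ _ _) _)) (pow_mem (j_mem Φ _ _) _)

theorem el_mul (v w : V6) : el Φ v * el Φ w = el Φ (v + w) := by
  let _ : CommGroup ↥Φ.J :=
    { (inferInstance : Group ↥Φ.J) with mul_comm := fun a b => Subtype.ext (frame_commute a.2 b.2).eq }
  let e : Fin 6 → ↥Φ.J := fun a => ⟨Φ.j a 5, j_mem Φ a 5⟩
  have hp : ∀ a : Fin 6, ∀ x y : ZMod 3, e a ^ (x + y).val = e a ^ x.val * e a ^ y.val := fun a x y => by
    rw [← pow_add, ZMod.val_add, ← pow_eq_pow_mod _ (Subtype.ext (by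
      show (Φ.j a 5) ^ 3 = 1
      rw [pow_succ, pow_two, Φ.cube]) : e a ^ 3 = 1)]
  have h1 : e 0 ^ (v 0).val * e 1 ^ (v 1).val * e 2 ^ (v 2).val * e 3 ^ (v 3).val * e 4 ^ (v 4).val *
      (e 0 ^ (w 0).val * e 1 ^ (w 1).val * e 2 ^ (w 2).val * e 3 ^ (w 3).val * e 4 ^ (w 4).val) =
      e 0 ^ (v 0 + w 0).val * e 1 ^ (v 1 + w 1).val * e 2 ^ (v 2 + w 2).val * e 3 ^ (v 3 + w 3).val *
        e 4 ^ (v 4 + w 4).val := by
    rw [hp, hp, hp, hp, hp]
    ac_rfl
  exact congrArg Subtype.val h1

theorem el_zero : el Φ 0 = 1 := by simp [el]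

theorem el_pow (v : V6) : ∀ n : ℕ, el Φ v ^ n = el Φ (n • v)
  | 0 => by rw [pow_zero, zero_smul, el_zero]
  | n + 1 => by rw [pow_succ, el_pow v n, el_mul, succ_nsmul]

theorem el_inv (v : V6) : (el Φ v)⁻¹ = el Φ (-v) :=
  inv_eq_of_mul_eq_one_right (by rw [el_mul, add_neg_cancel, el_zero])

theorem el_single : ∀ a : Fin 5, el Φ (vd a.castSucc 5) = Φ.j a.castSucc 5 := by
  intro a
  fin_cases a <;> simp [el, vd, show ((1 : ZMod 3)).val = 1 from rfl]

theorem el_vd (a b : Fin 6) : el Φ (vd a b) = Φ.j a b := by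
  have h5 : ∀ a : Fin 6, el Φ (vd a 5) = Φ.j a 5 := by
    intro a
    rcases Fin.eq_castSucc_or_eq_last a with ⟨a, rfl⟩ | rfl
    · exact el_single Φ a
    · rw [show vd (Fin.last 5) 5 = 0 from funext fun c => sub_self _, el_zero]
      exact (j_self Φ _).symm
  have e : ∀ a b : Fin 6, vd a b = vd a 5 + -vd b 5 := by decide +kernel
  rw [e, ← el_mul, ← el_inv, h5, h5, j_symm, Φ.cocycle]

theorem el_ones : el Φ (fun _ => 1) = 1 := by
  obtain ⟨n, -, hn⟩ := Φ.perm (Equiv.swap 4 5)
  have h1 := congrArg (fun y => n * y * n⁻¹) (j_sum Φ)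
  simp only [← conj_mul, hn, mul_one, mul_inv_cancel] at h1
  have e : ∀ a : Fin 6, a ≠ 4 → a ≠ 5 → Equiv.swap (4 : Fin 6) 5 a = a := fun a => Equiv.swap_apply_of_ne_of_ne
  rw [e 0 (by decide) (by decide), e 1 (by decide) (by decide), e 2 (by decide) (by decide),
    e 3 (by decide) (by decide), Equiv.swap_apply_left, Equiv.swap_apply_right] at h1
  simp only [el, show ((1 : ZMod 3)).val = 1 from rfl, pow_one]
  exact h1

theorem el_surj {x : G} (hx : x ∈ Φ.J) : ∃ v : V6, wsum v = 0 ∧ x = el Φ v := by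
  rw [Φ.span] at hx
  induction hx using closure_induction with
  | mem w hw =>
    obtain ⟨⟨a, b⟩, rfl⟩ := hw
    refine ⟨vd a b, ?_, (el_vd Φ a b).symm⟩
    revert a b; decide +kernel
  | one => exact ⟨0, by simp [wsum], (el_zero Φ).symm⟩
  | mul p q _ _ hp hq =>
    obtain ⟨v, hv, rfl⟩ := hp
    obtain ⟨w, hw, rfl⟩ := hq
    refine ⟨v + w, ?_, el_mul Φ v w⟩
    linear_combination (norm := (simp only [wsum, Pi.add_apply]; ring)) hv + hw
  | inv p _ hp =>
    obtain ⟨v, hv, rfl⟩ := hp
    refine ⟨-v, ?_, el_inv Φ v⟩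
    linear_combination (norm := (simp only [wsum, Pi.neg_apply]; ring)) -hv

/-- The kernel consists of the constants. -/
theorem el_eq_iff {v w : V6} (hv : wsum v = 0) (hw : wsum w = 0) : el Φ v = el Φ w ↔ Same v w := by
  constructor
  · intro h
    by_contra hne
    have hk : el Φ (v - w) = 1 := by rw [sub_eq_add_neg, ← el_mul, ← el_inv, h, mul_inv_cancel]
    have hfin : Finite ↥Φ.J := Nat.finite_of_card_ne_zero (by rw [Φ.card]; decide)
    let g : ↥Φ.J → Fin 5 → ZMod 3 := fun x a => (el_surj Φ x.2).choose a.castSucc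
    -- two independent vectors in the kernel
    let φ : ZMod 3 × ZMod 3 × ↥Φ.J → Fin 5 → ZMod 3 := fun p a =>
      p.1 + p.2.1 * (v - w) a.castSucc + g p.2.2 a
    have hφ : Function.Injective φ := by
      rintro ⟨p, q, x⟩ ⟨p', q', x'⟩ e
      have hx := (el_surj Φ x.2).choose_spec
      have hx' := (el_surj Φ x'.2).choose_spec
      set u := (el_surj Φ x.2).choose
      set u' := (el_surj Φ x'.2).choose
      have e' : ∀ a : Fin 5, p + q * (v - w) a.castSucc + u a.castSucc =
          p' + q' * (v - w) a.castSucc + u' a.castSucc := fun a => congrFun e a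
      have hd : u - u' = ((p' - p).val • fun _ => 1) + (q' - q).val • (v - w) := by
        funext c
        have h5 : ∀ c : Fin 6, (u - u') c = (p' - p) + (q' - q) * (v - w) c := fun c => by
          have e0 := e' 0; have e1 := e' 1; have e2 := e' 2; have e3 := e' 3; have e4 := e' 4
          have a1 := hx.1; have a2 := hx'.1; have a3 := hv; have a4 := hw
          rcases Fin.eq_castSucc_or_eq_last c with ⟨c, rfl⟩ | rfl
          · simp only [Pi.sub_apply] at e' ⊢; linear_combination e' c
          · simp only [Pi.sub_apply, wsum] at e0 e1 e2 e3 e4 a1 a2 a3 a4 ⊢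
            have h3 : (3 : ZMod 3) = 0 := rfl
            change u 5 - u' 5 = (p' - p) + (q' - q) * (v 5 - w 5)
            change p + q * (v 0 - w 0) + u 0 = p' + q' * (v 0 - w 0) + u' 0 at e0
            change p + q * (v 1 - w 1) + u 1 = p' + q' * (v 1 - w 1) + u' 1 at e1
            change p + q * (v 2 - w 2) + u 2 = p' + q' * (v 2 - w 2) + u' 2 at e2
            change p + q * (v 3 - w 3) + u 3 = p' + q' * (v 3 - w 3) + u' 3 at e3
            change p + q * (v 4 - w 4) + u 4 = p' + q' * (v 4 - w 4) + u' 4 at e4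
            linear_combination a1 - a2 - (q' - q) * a3 + (q' - q) * a4 - e0 - e1 - e2 - e3 - e4 -
              2 * (p' - p) * h3
        rw [h5, Pi.add_apply, Pi.smul_apply, Pi.smul_apply, nsmul_eq_mul, nsmul_eq_mul, ZMod.natCast_val,
          ZMod.natCast_val, ZMod.cast_id', id, id, mul_one]
      have hd' : el Φ (u - u') = 1 := by
        rw [hd, ← el_mul, ← el_pow, ← el_pow, el_ones, hk, one_pow, one_pow, one_mul]
      have hxx : x = x' := by
        refine Subtype.ext ?_
        rw [sub_eq_add_neg, ← el_mul, ← el_inv, mul_inv_eq_one] at hd'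
        rw [hx.2, hx'.2, hd']
      subst hxx
      obtain ⟨c, hc⟩ : ∃ c : Fin 5, (v - w) c.castSucc ≠ (v - w) 0 := by
        by_contra hall
        push Not at hall
        refine hne fun c => ?_
        rcases Fin.eq_castSucc_or_eq_last c with ⟨c, rfl⟩ | rfl
        · exact hall c
        · simp only [Pi.sub_apply, wsum] at hall hv hw
          have h1 := hall 1; have h2 := hall 2; have h3 := hall 3; have h4 := hall 4
          have h3' : (3 : ZMod 3) = 0 := rfl
          change v 1 - w 1 = v 0 - w 0 at h1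
          change v 2 - w 2 = v 0 - w 0 at h2
          change v 3 - w 3 = v 0 - w 0 at h3
          change v 4 - w 4 = v 0 - w 0 at h4
          change v 5 - w 5 = v 0 - w 0
          linear_combination hv - hw - h1 - h2 - h3 - h4 - 2 * (v 0 - w 0) * h3'
      have k1 : q' = q := by
        have a := e' c; have b := e' 0
        change p + q * (v - w) 0 + _ = p' + q' * (v - w) 0 + _ at b
        have hm : (q' - q) * ((v - w) c.castSucc - (v - w) 0) = 0 := by linear_combination b - a
        exact sub_eq_zero.1 ((mul_eq_zero.1 hm).resolve_right (sub_ne_zero.2 hc))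
      subst k1
      have k2 : p = p' := by linear_combination e' 0
      subst k2
      rfl
    have := Nat.card_le_card_of_injective φ hφ
    rw [Nat.card_prod, Nat.card_prod, Φ.card, Nat.card_fun, Nat.card_zmod, Nat.card_fin] at this
    norm_num at this
  · intro h
    have e : v = w + (v 0 - w 0).val • fun _ => (1 : ZMod 3) := funext fun c => by
      rw [Pi.add_apply, Pi.smul_apply, nsmul_eq_mul, ZMod.natCast_val, ZMod.cast_id', id, mul_one, ← h c]
      ring
    conv_lhs => rw [e]
    rw [← el_mul, ← el_pow, el_ones, one_pow, mul_one]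

theorem conj_el {n : G} {σ : Equiv.Perm (Fin 6)} (hn : ∀ a b, n * Φ.j a b * n⁻¹ = Φ.j (σ a) (σ b))
    {v : V6} (hv : wsum v = 0) : n * el Φ v * n⁻¹ = el Φ (fun c => v (σ.symm c)) := by
  have key : ∀ v : V6, wsum v = 0 → v = (v 0).val • vd 0 5 + (v 1).val • vd 1 5 + (v 2).val • vd 2 5 +
      (v 3).val • vd 3 5 + (v 4).val • vd 4 5 := by decide +kernel
  have h1 : ∀ a, el Φ (vd (σ a) (σ 5)) = Φ.j (σ a) (σ 5) := fun a => el_vd Φ _ _
  conv_lhs => rw [el]
  simp only [← conj_mul, ← conj_pow, hn, ← h1, el_pow, el_mul]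
  congr 1
  funext c
  conv_rhs => rw [key v hv]
  simp only [Pi.add_apply, Pi.smul_apply, vd, Equiv.symm_apply_eq]

end Cfsg.Agent.U62Three.K
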