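import Cfsg.Agent.U62Three.Facts
import Cfsg.Agent.U62Three.K.Z.Vec

/-!
# The centraliser of `z`: the two blocks and the involution
-/

set_option autoImplicit false
set_option linter.unusedSectionVars false

open Subgroup Pointwise
open scoped commutatorElement

namespace Cfsg.Agent.U62Three.K

universe u

/-- The facts about the quaternion group used below. -/
theorem q8_facts : (∀ a : QuaternionGroup 2, a * a = 1 → a = 1 ∨ a = QuaternionGroup.a 2) ∧
    (∀ a b : QuaternionGroup 2, a * a ≠ 1 → b * b ≠ 1 → a * a = b * b) ∧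
    (∀ a : QuaternionGroup 2, a * a * (a * a) = 1) ∧
    (∀ a : QuaternionGroup 2, a * QuaternionGroup.a 2 = QuaternionGroup.a 2 * a) ∧
    (∀ a : QuaternionGroup 2, (∀ b, a * b = b * a) → a = 1 ∨ a = QuaternionGroup.a 2) ∧
    (∃ a b : QuaternionGroup 2, a * b ≠ b * a) ∧
    (∀ a : QuaternionGroup 2, a * a = 1 ∨ a * a = QuaternionGroup.a 2) ∧
    (∀ a b : QuaternionGroup 2, a * a ≠ 1 → b * a = a * b →
      b = 1 ∨ b = a ∨ b = a * a ∨ b = a * a * a) := by
  decide +kernel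

variable {G : Type u} [Group G] {z : G} {Q : Subgroup G} (H : Hyp z Q) (D : Facts z Q)

theorem z_cube (H : Hyp z Q) : z ^ 3 = 1 := by rw [← H.oz]; exact pow_orderOf_eq_one z

theorem z_ne (H : Hyp z Q) : z ≠ 1 := fun e => by
  have := H.oz
  rw [e, orderOf_one] at this
  omega

theorem t_sq (i : Fin 2) : D.t i * D.t i = 1 := by
  have := pow_orderOf_eq_one (D.t i)
  rwa [D.t_order i, pow_two] at this

theorem t_inv_self (i : Fin 2) : (D.t i)⁻¹ = D.t i := inv_eq_of_mul_eq_one_right (t_sq D i)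

theorem t_ne (i : Fin 2) : D.t i ≠ 1 := fun e => by
  have := D.t_order i
  rw [e, orderOf_one] at this
  omega

/-- A quaternion group is a cover of its involution. -/
theorem cover_R (i : Fin 2) : Cover (D.t i) (D.R i) ∧ Nat.card ↥(D.R i) = 8 ∧
    (∃ a ∈ D.R i, ∃ b ∈ D.R i, a * b ≠ b * a) ∧
    (∀ r ∈ D.R i, r * r = 1 → r = 1 ∨ r = D.t i) ∧
    ∀ a ∈ D.R i, a * a ≠ 1 → ∀ b ∈ D.R i, Commute b a → b = 1 ∨ b = a ∨ b = a * a ∨ b = a * a * a := by
  obtain ⟨e⟩ := D.quat i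
  obtain ⟨f1, -, -, f4, f5, ⟨x, y, hxy⟩, f7, f8⟩ := q8_facts
  have ht : e ⟨D.t i, D.t_mem i⟩ = QuaternionGroup.a 2 := by
    rcases f1 (e ⟨D.t i, D.t_mem i⟩) (by
      rw [← map_mul, ← map_one e]; exact congrArg e (Subtype.ext (t_sq D i))) with h | h
    · exact absurd (congrArg Subtype.val ((MulEquiv.map_eq_one_iff e).1 h)) (t_ne D i)
    · exact h
  have back : ∀ r : ↥(D.R i), (e r = 1 → (r : G) = 1) ∧ (e r = QuaternionGroup.a 2 → (r : G) = D.t i) :=
    fun r => ⟨fun h => congrArg Subtype.val ((MulEquiv.map_eq_one_iff e).1 h),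
      fun h => congrArg Subtype.val (e.injective (h.trans ht.symm))⟩
  refine ⟨⟨D.t_mem i, fun a ha => ?_, fun a ha => ?_, fun a ha hc => ?_⟩, ?_,
    ⟨_, (e.symm x).2, _, (e.symm y).2, fun h => hxy ?_⟩, fun r hr h => ?_, fun a ha h2 b hb hab => ?_⟩
  · rcases f7 (e ⟨a, ha⟩) with h | h <;> rw [← map_mul] at h
    · exact Or.inl ((back _).1 h)
    · exact Or.inr ((back _).2 h)
  · refine congrArg Subtype.val (e.injective (a₁ := ⟨a, ha⟩ * ⟨D.t i, D.t_mem i⟩)
      (a₂ := ⟨D.t i, D.t_mem i⟩ * ⟨a, ha⟩) ?_)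
    rw [map_mul, map_mul, ht, f4]
  · rcases f5 (e ⟨a, ha⟩) (fun b => by
      obtain ⟨b, rfl⟩ := e.surjective b
      rw [← map_mul, ← map_mul]
      exact congrArg e (Subtype.ext (hc b b.2).eq)) with h | h
    · exact Or.inl ((back _).1 h)
    · exact Or.inr ((back _).2 h)
  · rw [Nat.card_congr e.toEquiv, Nat.card_eq_fintype_card, QuaternionGroup.card]
  · have := congrArg e (Subtype.ext h : e.symm x * e.symm y = e.symm y * e.symm x)
    simpa using this
  · rcases f1 (e ⟨r, hr⟩) (by rw [← map_mul, ← map_one e]; exact congrArg e (Subtype.ext h)) with h | h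
    · exact Or.inl ((back _).1 h)
    · exact Or.inr ((back _).2 h)
  · have hne : e ⟨a, ha⟩ * e ⟨a, ha⟩ ≠ 1 := fun h => h2 (by
      rw [← map_mul] at h; exact (back _).1 h)
    have hc : e ⟨b, hb⟩ * e ⟨a, ha⟩ = e ⟨a, ha⟩ * e ⟨b, hb⟩ := by
      rw [← map_mul, ← map_mul]; exact congrArg e (Subtype.ext hab.eq)
    rcases f8 _ _ hne hc with h | h | h | h
    · exact Or.inl ((back _).1 h)
    · exact Or.inr (Or.inl (congrArg Subtype.val (e.injective h)))
    · rw [← map_mul] at h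
      exact Or.inr (Or.inr (Or.inl (congrArg Subtype.val (e.injective h))))
    · rw [← map_mul, ← map_mul] at h
      exact Or.inr (Or.inr (Or.inr (congrArg Subtype.val (e.injective h))))

theorem t_cent (i : Fin 2) : D.t i ∈ centralizer ({z} : Set G) := D.R_le i (D.t_mem i)

theorem tQ1 {x : G} (hx : x ∈ D.Qi 1) : Commute (D.t 0) x :=
  D.R_cent 0 1 (by decide) _ (D.t_mem 0) x hx

theorem tR {i : Fin 2} {r : G} (hr : r ∈ D.R i) : Commute r (D.t 0) := by
  fin_cases i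
  · exact (cover_R D 0).1.central r hr
  · exact (D.R_comm _ (D.t_mem 0) r hr).symm

theorem zpow_z_mem (i : Fin 2) {x : G} (hx : x ∈ zpowers z) : x ∈ D.Qi i :=
  zpowers_le.2 (D.z_mem i) hx

theorem z_comm_Q {x : G} (H : Hyp z Q) (hx : x ∈ Q) : Commute z x :=
  (mem_centralizer_singleton_iff.1 (H.le hx)).symm

theorem zpow_cases (H : Hyp z Q) {x : G} (hx : x ∈ zpowers z) : x = 1 ∨ x = z ∨ x = z ^ 2 := by
  obtain ⟨s, rfl⟩ := mem_zpowers_iff.1 hx
  have e : z ^ (3 : ℤ) = 1 := by rw [show (3 : ℤ) = ((3 : ℕ) : ℤ) from rfl, zpow_natCast]; exact z_cube H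
  rw [← Int.emod_add_mul_ediv s 3, zpow_add, zpow_mul, e, one_zpow, mul_one]
  rcases (show s % 3 = 0 ∨ s % 3 = 1 ∨ s % 3 = 2 by omega) with h | h | h <;> rw [h]
  · exact Or.inl (zpow_zero z)
  · exact Or.inr (Or.inl (zpow_one z))
  · exact Or.inr (Or.inr (zpow_natCast z 2))

theorem Q_split {x : G} (hx : x ∈ Q) : ∃ a ∈ D.Qi 0, ∃ b ∈ D.Qi 1, x = a * b := by
  have hn : D.Qi 0 ≤ normalizer (D.Qi 1 : Set G) := fun a ha => by
    rw [mem_normalizer_iff]
    intro w
    constructor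
    · intro hw; rw [(D.comm 0 1 (by decide) a ha w hw).eq, mul_inv_cancel_right]; exact hw
    · intro hw
      have h := D.comm 0 1 (by decide) a ha _ hw
      have : w = a * w * a⁻¹ := by
        calc w = a⁻¹ * (a * w * a⁻¹) * a := by group
          _ = a⁻¹ * (a * (a * w * a⁻¹)) := by rw [h.eq, mul_assoc]
          _ = a * w * a⁻¹ := by group
      rwa [this]
  have hx' : x ∈ (↑(D.Qi 0 ⊔ D.Qi 1) : Set G) := by rw [D.sup]; exact hx
  rw [coe_mul_of_left_le_normalizer_right _ _ hn] at hx'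
  obtain ⟨a, ha, b, hb, rfl⟩ := hx'
  exact ⟨a, ha, b, hb, rfl⟩

theorem R_norm_Q (H : Hyp z Q) (i : Fin 2) : D.R i ≤ normalizer (Q : Set G) :=
  fun _ hr => H.normal (D.R_le i hr)

theorem M_split (H : Hyp z Q) {x : G} (hx : x ∈ Q ⊔ D.R 0 ⊔ D.R 1) :
    ∃ q ∈ Q, ∃ r ∈ D.R 0, ∃ s ∈ D.R 1, x = q * r * s := by
  rw [sup_assoc] at hx
  have hn : D.R 0 ⊔ D.R 1 ≤ normalizer (Q : Set G) := sup_le (R_norm_Q D H 0) (R_norm_Q D H 1)
  have hx' : x ∈ (↑(Q ⊔ (D.R 0 ⊔ D.R 1)) : Set G) := hx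
  rw [coe_mul_of_right_le_normalizer_left _ _ hn] at hx'
  obtain ⟨q, hq, w, hw, rfl⟩ := hx'
  have hn' : D.R 0 ≤ normalizer (D.R 1 : Set G) := fun a ha => by
    refine centralizer_le_normalizer (D.R 1 : Set G) ?_
    exact mem_centralizer_iff.2 fun s hs => (D.R_comm a ha s hs).eq.symm
  have hw' : w ∈ (↑(D.R 0 ⊔ D.R 1) : Set G) := hw
  rw [coe_mul_of_left_le_normalizer_right _ _ hn'] at hw'
  obtain ⟨r, hr, s, hs, rfl⟩ := hw'
  exact ⟨q, hq, r, hr, s, hs, (mul_assoc q r s).symm⟩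

/-- Commutators in `Q` are central. -/
theorem comm_mem_z (H : Hyp z Q) {a b : G} (ha : a ∈ Q) (hb : b ∈ Q) :
    a * b * a⁻¹ * b⁻¹ ∈ zpowers z := by
  rw [← H.centre]
  exact ⟨⁅(⟨a, ha⟩ : ↥Q), ⟨b, hb⟩⁆, H.ext.1.2.2 ▸ commutator_mem_commutator (mem_top _) (mem_top _),
    by simp [commutatorElement_def]⟩

/-- The part of `Q` centralised by `t` is the second block. -/
theorem Q_cent_t (H : Hyp z Q) {x : G} (hx : x ∈ Q) (h : Commute x (D.t 0)) : x ∈ D.Qi 1 := by
  obtain ⟨a, ha, b, hb, rfl⟩ := Q_split D hx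
  have ha' : Commute a (D.t 0) := by
    have := h.mul_left (tQ1 D hb).symm.inv_left
    rwa [mul_inv_cancel_right] at this
  have h1 : a * a ∈ zpowers z := by
    have := D.t_inv 0 a ha
    rwa [← ha'.eq, mul_inv_cancel_right] at this
  have h3 : a ^ 3 = 1 := D.cube a (D.le 0 ha)
  refine mul_mem (zpow_z_mem D 1 ?_) hb
  have : a = (a * a)⁻¹ := eq_inv_of_mul_eq_one_left (by rw [← mul_assoc, ← pow_two, ← pow_succ, h3])
  rw [this]
  exact inv_mem h1

/-- The centraliser of `t` in the preimage of the quaternion part. -/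
theorem M_cent_t (H : Hyp z Q) {x : G} (hx : x ∈ Q ⊔ D.R 0 ⊔ D.R 1) (h : Commute x (D.t 0)) :
    ∃ q ∈ D.Qi 1, ∃ r ∈ D.R 0, ∃ s ∈ D.R 1, x = q * r * s := by
  obtain ⟨q, hq, r, hr, s, hs, rfl⟩ := M_split D H hx
  refine ⟨q, Q_cent_t D H hq ?_, r, hr, s, hs, rfl⟩
  have := (h.mul_left (tR D hs).inv_left)
  rw [mul_inv_cancel_right] at this
  have := this.mul_left (tR D hr).inv_left
  rwa [mul_inv_cancel_right] at this

/-- The swap moves `t`. -/
theorem fix_blocks {g : G} (hg : g ∈ centralizer ({z} : Set G)) (ht : Commute g (D.t 0)) (i : Fin 2) :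
    ∀ x, x ∈ D.Qi i ↔ g * x * g⁻¹ ∈ D.Qi i := by
  obtain ⟨k, hk⟩ := D.perm g hg i
  rcases eq_or_ne k i with rfl | hki
  · exact hk
  exfalso
  -- some element of the first block would be centralised by `t`
  have key : ∀ x ∈ D.Qi 0, ∀ y ∈ D.Qi 1, (g * x * g⁻¹ = y ∨ g * y * g⁻¹ = x) → x ∈ zpowers z := by
    intro x hx y hy hxy
    have hxt : Commute (D.t 0) x := by
      rcases hxy with e | e
      · have h1 := tQ1 D hy
        rw [← e] at h1
        have h2 := h1.map (MulAut.conj g⁻¹).toMonoidHom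
        simp only [MulEquiv.coe_toMonoidHom, MulAut.conj_apply, inv_inv] at h2
        rw [show g⁻¹ * (g * x * g⁻¹) * g = x by group, mul_assoc, ← ht.eq, inv_mul_cancel_left] at h2
        exact h2
      · have h2 := (tQ1 D hy).map (MulAut.conj g).toMonoidHom
        simp only [MulEquiv.coe_toMonoidHom, MulAut.conj_apply] at h2
        rwa [e, ht.eq, mul_inv_cancel_right] at h2
    have h1 := D.t_inv 0 x hx
    rw [hxt.eq, mul_inv_cancel_right] at h1
    have h3 : x ^ 3 = 1 := D.cube x (D.le 0 hx)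
    rw [show x = (x * x)⁻¹ from eq_inv_of_mul_eq_one_left (by rw [← mul_assoc, ← pow_two, ← pow_succ, h3])]
    exact inv_mem h1
  have hall : ∀ x ∈ D.Qi 0, x ∈ zpowers z := by
    intro x hx
    fin_cases i <;> fin_cases k <;> first | exact absurd rfl hki | skip
    · exact key x hx _ ((hk x).1 hx) (Or.inl rfl)
    · refine key x hx (g⁻¹ * x * g) ((hk _).2 ?_) (Or.inr (by group))
      rw [show g * (g⁻¹ * x * g) * g⁻¹ = x by group]; exact hx
  have hle : Nat.card ↥(D.Qi 0) ≤ 3 := by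
    have hf : Finite ↥(zpowers z) := (finite_zpowers.2 (isOfFinOrder_iff_pow_eq_one.2 ⟨3, by norm_num,
      by rw [← D.cube z (D.le 0 (D.z_mem 0))]⟩)).to_subtype
    have h3 : Nat.card ↥(zpowers z) ≤ 3 := by
      rw [Nat.card_zpowers]
      exact Nat.le_of_dvd (by norm_num) (orderOf_dvd_of_pow_eq_one (D.cube z (D.le 0 (D.z_mem 0))))
    exact (Nat.card_le_card_of_injective (fun x : ↥(D.Qi 0) => (⟨x.1, hall x.1 x.2⟩ : ↥(zpowers z)))
      fun a b e => Subtype.ext (congrArg (Subtype.val : ↥(zpowers z) → G) e :)).trans h3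
  rw [D.cardQ 0] at hle
  omega

theorem not_zpow_z (H : Hyp z Q) {v : V6} (hv : wsum v = 0)
    (hne : ¬ Same v 0 ∧ ¬ Same v (vd 0 1 + vd 2 1) ∧ ¬ Same v (-(vd 0 1 + vd 2 1))) :
    el D.F v ∉ zpowers z := by
  intro h
  have hz : z = el D.F (vd 0 1 + vd 2 1) := by rw [← el_mul, el_vd, el_vd]; exact D.F.hz
  have hw : wsum (vd 0 1 + vd 2 1) = 0 := by decide +kernel
  rcases zpow_cases H h with e | e | e
  · exact hne.1 ((el_eq_iff D.F hv (by simp [wsum])).1 (e.trans (el_zero D.F).symm))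
  · exact hne.2.1 ((el_eq_iff D.F hv hw).1 (e.trans hz))
  · refine hne.2.2 ((el_eq_iff D.F hv (by decide +kernel)).1 ?_)
    rw [e, ← el_inv, ← hz]
    exact (inv_eq_of_mul_eq_one_right (by rw [← pow_succ']; exact z_cube H)).symm

theorem j_not_z (H : Hyp z Q) : ∀ a b : Fin 6, a ≠ b → D.F.j a b ∉ zpowers z := fun a b hab => by
  rw [← el_vd]
  have key : ∀ a b : Fin 6, a ≠ b → wsum (vd a b) = 0 ∧ ¬ Same (vd a b) 0 ∧
      ¬ Same (vd a b) (vd 0 1 + vd 2 1) ∧ ¬ Same (vd a b) (-(vd 0 1 + vd 2 1)) := by decide +kernel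
  exact not_zpow_z D H (key a b hab).1 (key a b hab).2

/-- An element of a block that a quaternion element fixes modulo the centre, other than the centre, makes it
trivial. -/
theorem faith' {i : Fin 2} {r x : G} (hr : r ∈ D.R i) (hx : x ∈ D.Qi i) (hxz : x ∉ zpowers z)
    (h : Commute r x) : r = 1 :=
  D.faith i r hr x hx hxz (by rw [h.eq, mul_inv_cancel_right, mul_inv_cancel]; exact one_mem _)

theorem block_ne (i : Fin 2) : ∃ x ∈ D.Qi i, x ∉ zpowers z := by
  by_contra h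
  push Not at h
  have hf : Finite ↥(zpowers z) := (finite_zpowers.2 (isOfFinOrder_iff_pow_eq_one.2 ⟨3, by norm_num,
    D.cube z (D.le 0 (D.z_mem 0))⟩)).to_subtype
  have h1 := Nat.card_le_card_of_injective (fun x : ↥(D.Qi i) => (⟨x.1, h x.1 x.2⟩ : ↥(zpowers z)))
    fun a b e => Subtype.ext (congrArg (Subtype.val : ↥(zpowers z) → G) e :)
  rw [D.cardQ i, Nat.card_zpowers] at h1
  have h2 := Nat.le_of_dvd (by norm_num) (orderOf_dvd_of_pow_eq_one (D.cube z (D.le 0 (D.z_mem 0))))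
  omega

theorem odd_pow (H : Hyp z Q) {g : G} (hg : g ∈ centralizer ({z} : Set G)) (ht : Commute g (D.t 0)) :
    ∃ q ∈ D.Qi 1, ∃ r ∈ D.R 0, ∃ s ∈ D.R 1, g ^ 3 = q * r * s :=
  M_cent_t D H (D.odd g hg fun x hx => (fix_blocks D hg ht 0 x).1 hx) (ht.pow_left 3)

/-- `C(t)` meets `C(z)` in the normaliser of the first quaternion group. -/
theorem norm_R0 [Finite G] (H : Hyp z Q) :
    centralizer ({D.t 0} : Set G) ⊓ centralizer ({z} : Set G) ≤ normalizer (D.R 0 : Set G) := by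
  rintro g ⟨hgt, hgz⟩
  have ht : Commute g (D.t 0) := mem_centralizer_singleton_iff.1 hgt
  have hmap : (D.R 0).map (MulAut.conj g).toMonoidHom ≤ D.R 0 := by
    rintro _ ⟨r, hr, rfl⟩
    simp only [MulEquiv.coe_toMonoidHom, MulAut.conj_apply]
    have hM : g * r * g⁻¹ ∈ Q ⊔ D.R 0 ⊔ D.R 1 :=
      (mem_normalizer_iff.1 (D.norm hgz) r).1 (mem_sup_left (mem_sup_right hr))
    have hct : Commute (g * r * g⁻¹) (D.t 0) := by
      have h2 := ((cover_R D 0).1.central r hr).map (MulAut.conj g).toMonoidHom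
      simp only [MulEquiv.coe_toMonoidHom, MulAut.conj_apply] at h2
      rwa [ht.eq, mul_inv_cancel_right] at h2
    obtain ⟨q, hq, r', hr', s, hs, e⟩ := M_cent_t D H hM hct
    have hc : ∀ x ∈ D.Qi 1, Commute (q * s) x := fun x hx => by
      have h1 : Commute (g * r * g⁻¹) x := by
        obtain ⟨hx', e'⟩ : g⁻¹ * x * g ∈ D.Qi 1 ∧ x = g * (g⁻¹ * x * g) * g⁻¹ :=
          ⟨(fix_blocks D hgz ht 1 _).2 (by rwa [show g * (g⁻¹ * x * g) * g⁻¹ = x by group]), by group⟩
        have := (D.R_cent 0 1 (by decide) r hr _ hx').map (MulAut.conj g).toMonoidHom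
        simp only [MulEquiv.coe_toMonoidHom, MulAut.conj_apply] at this
        rwa [← e'] at this
      have h2 : Commute r' x := D.R_cent 0 1 (by decide) r' hr' x hx
      have h3 : q * s = g * r * g⁻¹ * r'⁻¹ := by
        rw [e, mul_assoc q r' s, (D.R_comm r' hr' s hs).eq, ← mul_assoc, mul_inv_cancel_right]
      rw [h3]
      exact h1.mul_left h2.inv_left
    obtain ⟨x, hx, hxz⟩ := block_ne D 1
    have hs1 : s = 1 := by
      refine D.faith 1 s hs x hx hxz ?_
      have hqx : q⁻¹ * x * q * x⁻¹ ∈ zpowers z := by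
        simpa using comm_mem_z H (inv_mem (D.le 1 hq)) (D.le 1 hx)
      have : s * x * s⁻¹ = q⁻¹ * x * q := by
        calc s * x * s⁻¹ = q⁻¹ * (q * s * x) * s⁻¹ := by group
          _ = q⁻¹ * (x * (q * s)) * s⁻¹ := by rw [(hc x hx).eq]
          _ = q⁻¹ * x * q := by group
      rwa [this]
    subst hs1
    rw [mul_one] at e hc
    have hqz : q ∈ zpowers z := D.centre 1 q hq hc
    have h4 : (g * r * g⁻¹) ^ 4 = 1 := by
      rw [conj_pow]
      rcases (cover_R D 0).1.sq r hr with h | h <;>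
        rw [show r ^ 4 = (r * r) * (r * r) by simp only [pow_succ, pow_zero, one_mul, mul_assoc], h] <;> simp [t_sq D 0]
    have hqr : Commute q r' := by
      rcases zpow_cases H hqz with e' | e' | e' <;> rw [e']
      · exact Commute.one_left _
      · exact (mem_centralizer_singleton_iff.1 (D.R_le 0 hr')).symm
      · exact ((show Commute z r' from (mem_centralizer_singleton_iff.1 (D.R_le 0 hr')).symm)).pow_left 2
    have hq3 : q ^ 3 = 1 := D.cube q (D.le 1 hq)
    have hr4 : r' ^ 4 = 1 := by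
      rcases (cover_R D 0).1.sq r' hr' with h | h <;>
        rw [show r' ^ 4 = (r' * r') * (r' * r') by simp only [pow_succ, pow_zero, one_mul, mul_assoc], h] <;> simp [t_sq D 0]
    rw [e, hqr.mul_pow, hr4, mul_one, pow_succ, hq3, one_mul] at h4
    rw [e, h4, one_mul]
    exact hr'
  have heq := eq_of_le_of_card_ge hmap (le_of_eq (card_map_of_injective (MulAut.conj g).injective).symm)
  rw [mem_normalizer_iff]
  intro w
  constructor
  · exact fun hw => heq ▸ ⟨w, hw, rfl⟩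
  · intro hw
    rw [← heq] at hw
    obtain ⟨v, hv, hvw⟩ := hw
    simp only [MulEquiv.coe_toMonoidHom, MulAut.conj_apply, mul_left_inj, mul_right_inj] at hvw
    exact hvw ▸ hv

end Cfsg.Agent.U62Three.K
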