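import Cfsg.Agent.U62Three.K.Z.Point

/-!
# Local facts at `z`: signalisers, fixed points, generation
-/

set_option autoImplicit false
set_option linter.unusedSectionVars false

open Subgroup Pointwise
open scoped commutatorElement

namespace Cfsg.Agent.U62Three.K

universe u

variable {G : Type u} [Group G] [Finite G] {z : G} {Q : Subgroup G} (D : Facts z Q)

theorem comm_mul_right (H : Hyp z Q) {a b c : G} (ha : a ∈ Q) (hb : b ∈ Q) (hc : c ∈ Q) :
    a * (b * c) * a⁻¹ * (b * c)⁻¹ = (a * b * a⁻¹ * b⁻¹) * (a * c * a⁻¹ * c⁻¹) := by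
  have hz : Commute b (a * c * a⁻¹ * c⁻¹) := by
    obtain ⟨n, hn⟩ := mem_zpowers_iff.1 (comm_mem_z H ha hc)
    rw [← hn]
    exact ((z_comm_Q H hb).symm).zpow_right n
  calc a * (b * c) * a⁻¹ * (b * c)⁻¹ = (a * b * a⁻¹) * (a * c * a⁻¹ * c⁻¹) * b⁻¹ := by group
    _ = (a * b * a⁻¹ * b⁻¹) * (b * (a * c * a⁻¹ * c⁻¹)) * b⁻¹ := by group
    _ = _ := by rw [hz.eq]; group

theorem comm_mul_left (H : Hyp z Q) {a b c : G} (ha : a ∈ Q) (hb : b ∈ Q) (hc : c ∈ Q) :
    a * b * c * (a * b)⁻¹ * c⁻¹ = (a * c * a⁻¹ * c⁻¹) * (b * c * b⁻¹ * c⁻¹) := by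
  have hz : ∀ {w v : G}, w ∈ zpowers z → v ∈ Q → Commute v w := fun {w v} hw hv => by
    obtain ⟨n, hn⟩ := mem_zpowers_iff.1 hw
    rw [← hn]
    exact ((z_comm_Q H hv).symm).zpow_right n
  have hbc := comm_mem_z H hb hc
  have hac := comm_mem_z H ha hc
  calc a * b * c * (a * b)⁻¹ * c⁻¹ = a * (b * c * b⁻¹ * c⁻¹) * c * a⁻¹ * c⁻¹ := by group
    _ = (b * c * b⁻¹ * c⁻¹) * (a * c * a⁻¹ * c⁻¹) := by rw [(hz hbc ha).eq]; group
    _ = _ := (hz hbc (Subgroup.mul_mem _ (Subgroup.mul_mem _ (Subgroup.mul_mem _ ha hc) (inv_mem ha))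
        (inv_mem hc))).symm.eq

/-- An element fixing the blocks and the two lines of the frame inside them normalises the frame. -/
theorem normJ_of_lines (H : Hyp z Q) {g : G} (hgz : g ∈ centralizer ({z} : Set G))
    (hblock : ∀ i x, x ∈ D.Qi i ↔ g * x * g⁻¹ ∈ D.Qi i)
    (h0 : g * D.F.j 0 1 * g⁻¹ ∈ zpowers z ⊔ zpowers (D.F.j 0 1))
    (h1 : g * D.F.j 3 4 * g⁻¹ ∈ zpowers z ⊔ zpowers (D.F.j 3 4)) :
    g ∈ normalizer (D.F.J : Set G) := by
  classical
  set C := centralizer (D.F.J : Set G)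
  have hgz' : Commute g z := mem_centralizer_singleton_iff.1 hgz
  have hzinv : g * z * g⁻¹ = z := by rw [hgz'.eq, mul_inv_cancel_right]
  -- the conjugate of a line is the line
  have hline : ∀ x, g * x * g⁻¹ ∈ zpowers z ⊔ zpowers x →
      ∀ c, Commute c z → Commute c x → Commute c (g * x * g⁻¹) := fun x hx c hcz hcx => by
    have hle : zpowers z ⊔ zpowers x ≤ centralizer ({c} : Set G) := sup_le
      (zpowers_le.2 (mem_centralizer_singleton_iff.2 hcz.symm.eq))
      (zpowers_le.2 (mem_centralizer_singleton_iff.2 hcx.symm.eq))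
    exact (mem_centralizer_singleton_iff.1 (hle hx)).symm
  set y := D.F.j 0 3 * D.F.j 1 3
  have hyJ : y ∈ D.F.J := mul_mem (j_mem D.F _ _) (j_mem D.F _ _)
  have hyC : ∀ {w}, w ∈ D.F.J → Commute y w := fun hw => frame_commute hyJ hw
  have hyz : Commute y z := hyC (zpow_z_J D (mem_zpowers z))
  set c := g * y * g⁻¹
  have conjc : ∀ {w}, Commute y w → Commute c (g * w * g⁻¹) := fun {w} h => by
    simpa [c] using h.map (MulAut.conj g).toMonoidHom
  have hcz : Commute c z := by have := conjc hyz; rwa [hzinv] at this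
  have hfix : ∀ x, x ∈ D.F.J → g * x * g⁻¹ ∈ zpowers z ⊔ zpowers x → x ∉ zpowers z →
      Commute c x := fun x hxJ hx hxz => by
    have h2 : Commute c (g * x * g⁻¹) := conjc (hyC hxJ)
    -- the two lines agree
    have hsub : zpowers z ⊔ zpowers (g * x * g⁻¹) ≤ zpowers z ⊔ zpowers x :=
      sup_le le_sup_left (zpowers_le.2 hx)
    have hmap : (zpowers z ⊔ zpowers x).map (MulAut.conj g).toMonoidHom = zpowers z ⊔ zpowers (g * x * g⁻¹) := by
      rw [Subgroup.map_sup, MonoidHom.map_zpowers, MonoidHom.map_zpowers]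
      simp [hzinv]
    have heq := eq_of_le_of_card_ge hsub (by
      rw [← hmap, card_map_of_injective (MulAut.conj g).injective])
    have hle : zpowers z ⊔ zpowers (g * x * g⁻¹) ≤ centralizer ({c} : Set G) := sup_le
      (zpowers_le.2 (mem_centralizer_singleton_iff.2 hcz.symm.eq))
      (zpowers_le.2 (mem_centralizer_singleton_iff.2 h2.symm.eq))
    exact (mem_centralizer_singleton_iff.1 (hle (heq.ge (mem_sup_right (mem_zpowers x))))).symm
  have hc0 := hfix _ (j_mem D.F 0 1) h0 (j_not_z D H 0 1 (by decide))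
  have hc1 := hfix _ (j_mem D.F 3 4) h1 (j_not_z D H 3 4 (by decide))
  have hnC : ∀ w ∈ C, g * w * g⁻¹ ∈ C := by
    intro w hw
    have hwj : ∀ {v}, v ∈ D.F.J → Commute w v := fun hv => (mem_centralizer_iff.1 hw _ hv).symm
    have hwz : Commute w z := hwj (zpow_z_J D (mem_zpowers z))
    have hwz' : Commute (g * w * g⁻¹) z := by
      have := hwz.map (MulAut.conj g).toMonoidHom
      simp only [MulEquiv.coe_toMonoidHom, MulAut.conj_apply] at this
      rwa [hzinv] at this
    have back : ∀ x, x ∈ D.F.J → g * x * g⁻¹ ∈ zpowers z ⊔ zpowers x → Commute (g * w * g⁻¹) x := fun x hxJ hx => by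
      have h2 : Commute (g * w * g⁻¹) (g * x * g⁻¹) := by
        simpa using (hwj hxJ).map (MulAut.conj g).toMonoidHom
      have hsub : zpowers z ⊔ zpowers (g * x * g⁻¹) ≤ zpowers z ⊔ zpowers x :=
        sup_le le_sup_left (zpowers_le.2 hx)
      have hmap : (zpowers z ⊔ zpowers x).map (MulAut.conj g).toMonoidHom =
          zpowers z ⊔ zpowers (g * x * g⁻¹) := by
        rw [Subgroup.map_sup, MonoidHom.map_zpowers, MonoidHom.map_zpowers]
        simp [hzinv]
      have heq := eq_of_le_of_card_ge hsub (by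
        rw [← hmap, card_map_of_injective (MulAut.conj g).injective])
      have hle : zpowers z ⊔ zpowers (g * x * g⁻¹) ≤ centralizer ({g * w * g⁻¹} : Set G) := sup_le
        (zpowers_le.2 (mem_centralizer_singleton_iff.2 hwz'.symm.eq))
        (zpowers_le.2 (mem_centralizer_singleton_iff.2 h2.symm.eq))
      exact (mem_centralizer_singleton_iff.1 (hle (heq.ge (mem_sup_right (mem_zpowers x))))).symm
    exact cent_JQ D H (mem_centralizer_singleton_iff.2 hwz'.eq) (back _ (j_mem D.F 0 1) h0)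
      (back _ (j_mem D.F 3 4) h1)
  have hyCC : y ∈ C := mem_centralizer_iff.2 fun w hw => ((hyC hw).eq).symm
  have hcC : c ∈ C := hnC y hyCC
  -- `c` and `y` act alike on a block modulo the centre
  have halike : ∀ i, ∀ x ∈ D.Qi i, x ∉ zpowers z → Commute y x → Commute c x →
      g * x * g⁻¹ ∈ zpowers z ⊔ zpowers x → ∀ v ∈ D.Qi i,
      (y * v * y⁻¹)⁻¹ * (c * v * c⁻¹) ∈ zpowers z := by
    intro i x hx hxz hyx hcx hgx v hv
    set E := zpowers z ⊔ zpowers x
    have hEQi : E ≤ D.Qi i := sup_le (zpowers_le.2 (D.z_mem i)) (zpowers_le.2 hx)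
    have hblocky : ∀ w ∈ D.Qi i, y * w * y⁻¹ ∈ D.Qi i ∧ c * w * c⁻¹ ∈ D.Qi i := by
      have hy : ∀ k w, w ∈ D.Qi k → y * w * y⁻¹ ∈ D.Qi k := by
        intro k w hw
        obtain ⟨l, hl⟩ := D.perm y (mem_centralizer_singleton_iff.2 hyz.eq) k
        rcases eq_or_ne l k with rfl | hlk
        · exact (hl w).1 hw
        exfalso
        fin_cases k
        · have h := (hl _).1 D.j_zero.1
          rw [(hyC (j_mem D.F 0 1)).eq, mul_inv_cancel_right] at h
          exact j_not_z D H 0 1 (by decide)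
            (D.centre l _ h fun w hw => D.comm 0 l (Ne.symm hlk) _ D.j_zero.1 w hw)
        · have h := (hl _).1 D.j_one.1
          rw [(hyC (j_mem D.F 3 4)).eq, mul_inv_cancel_right] at h
          exact j_not_z D H 3 4 (by decide)
            (D.centre l _ h fun w hw => D.comm 1 l (Ne.symm hlk) _ D.j_one.1 w hw)
      intro w hw
      refine ⟨hy i w hw, ?_⟩
      have hw' : g⁻¹ * w * g ∈ D.Qi i := (hblock i _).2 (by
        rwa [show g * (g⁻¹ * w * g) * g⁻¹ = w by group])
      have := (hblock i _).1 (hy i _ hw')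
      rwa [show g * (y * (g⁻¹ * w * g) * y⁻¹) * g⁻¹ = c * w * c⁻¹ by simp only [c]; group] at this
    have hEy : ∀ e ∈ E, Commute y e := fun e he =>
      (mem_centralizer_singleton_iff.1 ((sup_le
        (zpowers_le.2 (mem_centralizer_singleton_iff.2 hyz.symm.eq))
        (zpowers_le.2 (mem_centralizer_singleton_iff.2 hyx.symm.eq)) : E ≤ centralizer ({y} : Set G)) he)).symm
    have hEc : ∀ e ∈ E, Commute c e := fun e he =>
      (mem_centralizer_singleton_iff.1 ((sup_le
        (zpowers_le.2 (mem_centralizer_singleton_iff.2 hcz.symm.eq))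
        (zpowers_le.2 (mem_centralizer_singleton_iff.2 hcx.symm.eq)) : E ≤ centralizer ({c} : Set G)) he)).symm
    have hQ : ∀ {w}, w ∈ D.Qi i → w ∈ Q := fun hw => D.le i hw
    have hzfix : ∀ {h w : G}, Commute h z → w ∈ zpowers z → h * w * h⁻¹ = w := fun {h w} hh hw => by
      obtain ⟨n, hn⟩ := mem_zpowers_iff.1 hw
      rw [← hn, (hh.zpow_right n).eq, mul_inv_cancel_right]
    -- the form
    let P : G → G → G := fun a b => a * b * a⁻¹ * b⁻¹
    have hswap : ∀ {a b : G}, a ∈ Q → b ∈ Q → P a b * P b a = 1 := fun {a b} _ _ => by simp only [P]; group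
    have hform : ∀ {h : G}, Commute h z → (∀ e ∈ E, Commute h e) → (∀ w ∈ D.Qi i, h * w * h⁻¹ ∈ D.Qi i) →
        ∀ v ∈ D.Qi i, v ∉ E → ∀ v' ∈ D.Qi i, v' ∉ E →
          P v (h * v * h⁻¹) = P v' (h * v' * h⁻¹) := by
      intro h hhz hhE hhQ v hv hvE v' hv' hv'E
      set F := E ⊔ zpowers v
      have hF : F = D.Qi i := by
        haveI : Fact (Nat.Prime 3) := ⟨Nat.prime_three⟩
        have hp : IsPGroup 3 ↥(D.Qi i) := IsPGroup.of_card (n := 3) (by rw [D.cardQ]; rfl)
        obtain ⟨m, hm⟩ := IsPGroup.iff_card.1 (hp.to_le (sup_le hEQi (zpowers_le.2 hv) : F ≤ D.Qi i))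
        obtain ⟨a, ha⟩ := IsPGroup.iff_card.1 (hp.to_le hEQi)
        have h1 : a < m := by
          by_contra hle
          have := eq_of_le_of_card_ge (le_sup_left : E ≤ F) (by
            rw [hm, ha]; exact Nat.pow_le_pow_right (by norm_num) (by omega))
          exact hvE (this.ge (mem_sup_right (mem_zpowers v)))
        have h2 : 2 ≤ a := by
          by_contra hlt
          have he := eq_of_le_of_card_ge (le_sup_left : zpowers z ≤ E) (by
            rw [card_zz H, ha]
            exact (Nat.pow_le_pow_right (by norm_num) (show a ≤ 1 by omega)).trans (le_of_eq (pow_one 3)))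
          exact hxz (he.ge (mem_sup_right (mem_zpowers x)))
        exact eq_of_le_of_card_ge (sup_le hEQi (zpowers_le.2 hv)) (by
          rw [D.cardQ, hm]
          exact (show (27 : ℕ) = 3 ^ 3 from rfl) ▸ Nat.pow_le_pow_right (by norm_num) (show 3 ≤ m by omega))
      have hn : zpowers v ≤ normalizer (E : Set G) := by
        refine zpowers_le.2 (mem_normalizer_fintype ?_)
        intro e he
        have h1 : v * e * v⁻¹ * e⁻¹ ∈ E := mem_sup_left (comm_mem_z H (hQ hv) (hQ (hEQi he)))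
        have := mul_mem h1 he
        rwa [inv_mul_cancel_right] at this
      have hv'' : v' ∈ (↑(E ⊔ zpowers v) : Set G) := by rw [show E ⊔ zpowers v = D.Qi i from hF]; exact hv'
      rw [coe_mul_of_right_le_normalizer_left _ _ hn] at hv''
      obtain ⟨e, he, w, hw, rfl⟩ := hv''
      obtain ⟨n, rfl⟩ := mem_zpowers_iff.1 hw
      have he' : h * e * h⁻¹ = e := by rw [(hhE e he).eq, mul_inv_cancel_right]
      have heQ := hQ (hEQi he)
      have h3 : v ^ (3 : ℤ) = 1 := by
        rw [show (3 : ℤ) = ((3 : ℕ) : ℤ) from rfl, zpow_natCast]; exact D.cube v (hQ hv)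
      rw [← Int.emod_add_mul_ediv n 3, zpow_add, zpow_mul, h3, one_zpow, mul_one] at hv'E ⊢
      set v1 := h * v * h⁻¹
      have hv1 : v1 ∈ Q := hQ (hhQ v hv)
      have hev : P e v1 = P e v := by
        have hm : P e v ∈ zpowers z := comm_mem_z H heQ (hQ hv)
        rw [← hzfix hhz hm]
        conv_lhs => rw [← he']
        simp only [P, v1]; group
      rcases (show n % 3 = 0 ∨ n % 3 = 1 ∨ n % 3 = 2 by omega) with r | r | r <;> rw [r] at hv'E ⊢
      · exact absurd (by simpa using he) hv'E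
      · rw [zpow_one, show h * (e * v) * h⁻¹ = e * v1 by rw [← conj_mul, he']]
        symm
        calc P (e * v) (e * v1) = P e (e * v1) * P v (e * v1) := comm_mul_left H heQ (hQ hv) (mul_mem heQ hv1)
          _ = P e e * P e v1 * (P v e * P v v1) := by
            simp only [P]; rw [comm_mul_right H heQ heQ hv1, comm_mul_right H (hQ hv) heQ hv1]
          _ = P v v1 := by
            rw [hev, show P e e = 1 by simp only [P]; group, one_mul, ← mul_assoc, hswap heQ (hQ hv), one_mul]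
      · rw [zpow_two, show h * (e * (v * v)) * h⁻¹ = e * (v1 * v1) by rw [← conj_mul, he', ← conj_mul]]
        symm
        have hvv : v * v ∈ Q := mul_mem (hQ hv) (hQ hv)
        have hvv1 : v1 * v1 ∈ Q := mul_mem hv1 hv1
        have hzc : ∀ {a b : G}, a ∈ zpowers z → b ∈ Q → Commute a b := fun {a b} ha hb => by
          obtain ⟨k, hk⟩ := mem_zpowers_iff.1 ha
          rw [← hk]; exact (z_comm_Q H hb).zpow_left k
        calc P (e * (v * v)) (e * (v1 * v1))
            = P e (e * (v1 * v1)) * P (v * v) (e * (v1 * v1)) :=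
              comm_mul_left H heQ hvv (mul_mem heQ hvv1)
          _ = P e e * P e (v1 * v1) * (P (v * v) e * P (v * v) (v1 * v1)) := by
            simp only [P]; rw [comm_mul_right H heQ heQ hvv1, comm_mul_right H hvv heQ hvv1]
          _ = P (v * v) (v1 * v1) := by
            rw [show P e (v1 * v1) = P e (v * v) by
              simp only [P] at hev ⊢
              rw [comm_mul_right H heQ hv1 hv1, comm_mul_right H heQ (hQ hv) (hQ hv), hev],
              show P e e = 1 by simp only [P]; group, one_mul, ← mul_assoc, hswap heQ hvv, one_mul]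
          _ = (P v v1 * P v v1) * (P v v1 * P v v1) := by
            simp only [P]
            rw [comm_mul_left H (hQ hv) (hQ hv) hvv1, comm_mul_right H (hQ hv) hv1 hv1]
          _ = P v v1 := by
            have hm : P v v1 ∈ Q := mul_mem (mul_mem (mul_mem (hQ hv) hv1) (inv_mem (hQ hv))) (inv_mem hv1)
            rw [← mul_assoc, show P v v1 * P v v1 * P v v1 = 1 from by
              rw [← pow_two, ← pow_succ]; exact D.cube _ hm, one_mul]
    by_cases hvE : v ∈ E
    · rw [(hEy v hvE).eq, (hEc v hvE).eq, mul_inv_cancel_right, mul_inv_cancel_right, inv_mul_cancel]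
      exact one_mem _
    have hgE : ∀ e ∈ E, g⁻¹ * e * g ∈ E := by
      have hsub : E.map (MulAut.conj g).toMonoidHom = E := by
        refine eq_of_le_of_card_ge ?_ (le_of_eq (card_map_of_injective (MulAut.conj g).injective).symm)
        rw [Subgroup.map_sup, MonoidHom.map_zpowers, MonoidHom.map_zpowers]
        refine sup_le (zpowers_le.2 ?_) (zpowers_le.2 ?_)
        · simp only [MulEquiv.coe_toMonoidHom, MulAut.conj_apply, hzinv]; exact mem_sup_left (mem_zpowers z)
        · simp only [MulEquiv.coe_toMonoidHom, MulAut.conj_apply]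
          exact hgx
      intro e he
      obtain ⟨e', he', rfl⟩ := hsub.ge he
      simp only [MulEquiv.coe_toMonoidHom, MulAut.conj_apply]
      rwa [show g⁻¹ * (g * e' * g⁻¹) * g = e' by group]
    set v0 := g⁻¹ * v * g
    have hv0 : v0 ∈ D.Qi i := (hblock i _).2 (by rwa [show g * v0 * g⁻¹ = v by simp only [v0]; group])
    have hv0E : v0 ∉ E := fun h => hvE (by
      have h' : v0 ∈ E.map (MulAut.conj g⁻¹).toMonoidHom := by
        have heq : E.map (MulAut.conj g⁻¹).toMonoidHom = E :=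
          eq_of_le_of_card_ge (by rintro _ ⟨e, he, rfl⟩; simpa using hgE e he)
            (le_of_eq (card_map_of_injective (MulAut.conj g⁻¹).injective).symm)
        rw [heq]; exact h
      obtain ⟨e, he, hee⟩ := h'
      simp only [MulEquiv.coe_toMonoidHom, MulAut.conj_apply, inv_inv, v0, mul_left_inj, mul_right_inj] at hee
      exact hee ▸ he)
    have f1 := hform hyz hEy (fun w hw => (hblocky w hw).1) v hv hvE v0 hv0 hv0E
    have f2 : P v (c * v * c⁻¹) = P v (y * v * y⁻¹) := by
      have hm := comm_mem_z H (hQ hv0) (hQ (hblocky v0 hv0).1)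
      rw [f1]
      show _ = v0 * (y * v0 * y⁻¹) * v0⁻¹ * (y * v0 * y⁻¹)⁻¹
      rw [← hzfix hgz' hm]
      simp only [P, v0, c]; group
    set u := (y * v * y⁻¹)⁻¹ * (c * v * c⁻¹)
    have huQ : u ∈ D.Qi i := mul_mem (inv_mem (hblocky v hv).1) (hblocky v hv).2
    have hyvQ := hQ (hblocky v hv).1
    have hPu : P v u = 1 := by
      have h1 := comm_mul_right H (hQ hv) hyvQ (hQ huQ)
      rw [show y * v * y⁻¹ * u = c * v * c⁻¹ by simp only [u]; group] at h1
      exact mul_eq_left.1 (h1.symm.trans f2)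
    have hPx : ∀ {h : G}, Commute h z → Commute h x → P x (h * v * h⁻¹) = P x v := fun {h} hh hhx => by
      show _ = x * v * x⁻¹ * v⁻¹
      rw [← hzfix hh (comm_mem_z H (hQ hx) (hQ hv))]
      simp only [P]
      conv_lhs => rw [show x = h * x * h⁻¹ by rw [hhx.eq, mul_inv_cancel_right]]
      group
    have hPxu : P x u = 1 := by
      have h1 := comm_mul_right H (hQ hx) hyvQ (hQ huQ)
      rw [show y * v * y⁻¹ * u = c * v * c⁻¹ by simp only [u]; group] at h1
      exact mul_eq_left.1 (h1.symm.trans ((hPx hcz hcx).trans (hPx hyz hyx).symm))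
    have cu : ∀ {a : G}, P a u = 1 → Commute u a := fun {a} h => by
      have := mul_inv_eq_one.1 h
      exact (mul_inv_eq_iff_eq_mul.1 this).symm
    have hcent := cent_in_block D H hx hxz huQ (cu hPxu).symm
    by_contra hnz
    have hE' : E ≤ zpowers z ⊔ zpowers u := by
      have h2 : zpowers z ⊔ zpowers u ≤ E := sup_le le_sup_left (zpowers_le.2 hcent)
      have hcc := cent_in_block D H huQ hnz hx (cu hPxu)
      exact sup_le le_sup_left (zpowers_le.2 hcc)
    exact hvE (sup_le le_sup_left (zpowers_le.2 hcent) (cent_in_block D H huQ hnz hv (cu hPu)))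
  have hgQ : c * y⁻¹ ∈ Q := by
    have hyx0 := hyC (j_mem D.F 0 1)
    have hyx1 := hyC (j_mem D.F 3 4)
    refine D.kernel _ (mem_centralizer_singleton_iff.2 (hcz.mul_left hyz.inv_left).eq) fun w hw => ?_
    have key : ∀ i, ∀ v ∈ D.Qi i, (c * y⁻¹) * v * (c * y⁻¹)⁻¹ * v⁻¹ ∈ zpowers z := by
      intro i v hv
      obtain ⟨x, hx, hxz, hyx, hcx, hgx⟩ : ∃ x ∈ D.Qi i, x ∉ zpowers z ∧ Commute y x ∧ Commute c x ∧
          g * x * g⁻¹ ∈ zpowers z ⊔ zpowers x := by
        fin_cases i
        · exact ⟨_, D.j_zero.1, j_not_z D H 0 1 (by decide), hyx0, hc0, h0⟩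
        · exact ⟨_, D.j_one.1, j_not_z D H 3 4 (by decide), hyx1, hc1, h1⟩
      have hblockyi : y⁻¹ * v * y ∈ D.Qi i := by
        obtain ⟨k, hk⟩ := D.perm y (mem_centralizer_singleton_iff.2 hyz.eq) i
        rcases eq_or_ne k i with rfl | hki
        · exact (hk _).2 (by rwa [show y * (y⁻¹ * v * y) * y⁻¹ = v by group])
        exfalso
        have h := (hk x).1 hx
        rw [hyx.eq, mul_inv_cancel_right] at h
        exact hxz (D.centre k _ h fun w hw => D.comm i k (Ne.symm hki) _ hx w hw)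
      have h := halike i x hx hxz hyx hcx hgx _ hblockyi
      rw [show y * (y⁻¹ * v * y) * y⁻¹ = v by group] at h
      obtain ⟨n, hn⟩ := mem_zpowers_iff.1 h
      rw [show c * y⁻¹ * v * (c * y⁻¹)⁻¹ * v⁻¹ = v * (v⁻¹ * (c * (y⁻¹ * v * y) * c⁻¹)) * v⁻¹ by group, ← hn,
        ((z_comm_Q H (D.le i hv)).symm.zpow_right n).eq, mul_inv_cancel_right]
      exact hn ▸ h
    obtain ⟨a, ha, b, hb, rfl⟩ := Q_split D hw
    set d := c * y⁻¹
    have : d * (a * b) * d⁻¹ * (a * b)⁻¹ = (d * a * d⁻¹) * (d * b * d⁻¹ * b⁻¹) * a⁻¹ := by group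
    rw [this]
    obtain ⟨n, hn⟩ := mem_zpowers_iff.1 (key 1 b hb)
    have hcc : Commute (z ^ n) a⁻¹ := ((z_comm_Q H (D.le 0 ha)).inv_right).zpow_left n
    rw [← hn, mul_assoc, hcc.eq, ← mul_assoc]
    exact mul_mem (key 0 a ha) (zpow_mem (mem_zpowers z) n)
  have hgJ : c ∈ D.F.J := by
    have hm : c * y⁻¹ ∈ C := mul_mem hcC (inv_mem hyCC)
    have := Q_cent_JQ D H hgQ (mem_centralizer_iff.1 hm _ (j_mem D.F 0 1))
      (mem_centralizer_iff.1 hm _ (j_mem D.F 3 4))
    have := mul_mem this hyJ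
    rwa [inv_mul_cancel_right] at this
  -- the frame is generated by `y` and its part in `Q`
  have hJ : D.F.J = zpowers y ⊔ (zpowers z ⊔ zpowers (D.F.j 0 1) ⊔ zpowers (D.F.j 3 4)) := by
    refine le_antisymm ?_ (sup_le (zpowers_le.2 hyJ) (sup_le (sup_le (zpow_z_J D)
      (zpowers_le.2 (j_mem D.F _ _))) (zpowers_le.2 (j_mem D.F _ _))))
    intro x hx
    obtain ⟨v, hv, rfl⟩ := el_surj D.F hx
    have key : ∀ v : V6, wsum v = 0 → ∃ a b c d : Fin 3, Same v (a.val • (vd 0 3 + vd 1 3) +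
        b.val • (vd 0 1 + vd 2 1) + c.val • vd 0 1 + d.val • vd 3 4) ∧
        wsum (a.val • (vd 0 3 + vd 1 3) + b.val • (vd 0 1 + vd 2 1) + c.val • vd 0 1 + d.val • vd 3 4) = 0 := by
      decide +kernel
    obtain ⟨a, b, cc, d, hs, hw⟩ := key v hv
    rw [(el_eq_iff D.F hv hw).2 hs, ← el_mul, ← el_mul, ← el_mul, ← el_pow, ← el_pow, ← el_pow, ← el_pow,
      ← el_mul, ← el_mul]
    simp only [el_vd]
    have hzeq : D.F.j 0 1 * D.F.j 2 1 = z := D.F.hz.symm
    rw [hzeq]
    refine mul_mem (mul_mem (mul_mem ?_ ?_) ?_) ?_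
    · exact Subgroup.pow_mem _ (mem_sup_left (mem_zpowers y)) _
    · exact Subgroup.pow_mem _ (mem_sup_right (mem_sup_left (mem_sup_left (mem_zpowers z)))) _
    · exact Subgroup.pow_mem _ (mem_sup_right (mem_sup_left (mem_sup_right (mem_zpowers (D.F.j 0 1))))) _
    · exact Subgroup.pow_mem _ (mem_sup_right (mem_sup_right (mem_zpowers (D.F.j 3 4)))) _
  have hsub : ∀ x ∈ D.F.J, g * x * g⁻¹ ∈ D.F.J := by
    intro x hx
    have : D.F.J ≤ D.F.J.comap (MulAut.conj g).toMonoidHom := by
      conv_lhs => rw [hJ]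
      refine sup_le (zpowers_le.2 hgJ) (sup_le (sup_le (zpowers_le.2 ?_) (zpowers_le.2 ?_)) (zpowers_le.2 ?_))
      · show g * z * g⁻¹ ∈ D.F.J
        rw [hzinv]; exact zpow_z_J D (mem_zpowers z)
      · exact sup_le (zpow_z_J D) (zpowers_le.2 (j_mem D.F _ _)) h0
      · exact sup_le (zpow_z_J D) (zpowers_le.2 (j_mem D.F _ _)) h1
    exact this hx
  exact mem_normalizer_fintype fun x hx => hsub x hx

end Cfsg.Agent.U62Three.K
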